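/-
The commutant of a unipotent block matrix and its invertible members.
-/
import Cfsg.Prelude.Def_JordanBlocks
import Cfsg.Agent.Lib.UnipForms.Types

set_option autoImplicit false
set_option linter.unusedSectionVars false
set_option linter.style.haveILetI false

namespace Cfsg.Agent.UnipCentralizer

open Matrix

variable {F : Type*} [Field F] {t : ℕ} (d : Fin t → ℕ)

/-- The coordinates of the block matrix. -/
abbrev Pos : Type := (k : Fin t) × Fin (d k)

theorem pos_ext_iff {p q : Pos d} : p = q ↔ p.1 = q.1 ∧ (p.2 : ℕ) = q.2 := by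
  obtain ⟨l, a⟩ := p
  obtain ⟨k, b⟩ := q
  constructor
  · intro h; cases h; exact ⟨rfl, rfl⟩
  · rintro ⟨h1, h2⟩
    dsimp only at h1 h2
    subst h1
    exact congrArg (Sigma.mk l) (Fin.ext h2)

theorem jordan_sub_one_apply (p q : Pos d) :
    (jordanTypeMatrix d F - 1) p q = if p.1 = q.1 ∧ (p.2 : ℕ) = (q.2 : ℕ) + 1 then 1 else 0 := by
  have h := congrFun (UnipForms.jordanTypeMatrix_sub_one_mulVec d (Pi.single q (1 : F))) p
  rw [Matrix.mulVec_single_one] at h
  rw [show (jordanTypeMatrix d F - 1) p q = (jordanTypeMatrix d F - 1).col q p from rfl, h]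
  show (if h : 0 < (p.2 : ℕ) then (Pi.single q (1 : F) : Pos d → F) ⟨p.1, ⟨(p.2 : ℕ) - 1, by omega⟩⟩ else 0) = _
  by_cases h0 : 0 < (p.2 : ℕ)
  · rw [dif_pos h0, Pi.single_apply]
    refine if_congr ?_ rfl rfl
    rw [pos_ext_iff]
    dsimp only
    exact and_congr_right fun _ => ⟨fun e => by omega, fun e => by omega⟩
  · rw [dif_neg h0, if_neg (fun e => h0 (by omega))]

/-- The unknown `(k, p)`: coordinate `p` of the image of the generator of block `k`. -/
abbrev Unk : Type := {kp : Fin t × Pos d // d kp.2.1 ≤ (kp.2.2 : ℕ) + d kp.1}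

/-- The commuting matrix with given unknowns. -/
def mat (x : Unk d → F) : Matrix (Pos d) (Pos d) F :=
  Matrix.of fun p q =>
    if h : (q.2 : ℕ) ≤ (p.2 : ℕ) ∧ d p.1 ≤ (p.2 : ℕ) - q.2 + d q.1 then
      x ⟨(q.1, ⟨p.1, ⟨(p.2 : ℕ) - q.2, by omega⟩⟩), h.2⟩
    else 0

theorem mul_jordan_apply (M : Matrix (Pos d) (Pos d) F) (p q : Pos d) :
    (M * (jordanTypeMatrix d F - 1)) p q =
      if h : (q.2 : ℕ) + 1 < d q.1 then M p ⟨q.1, ⟨(q.2 : ℕ) + 1, h⟩⟩ else 0 := by
  rw [Matrix.mul_apply]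
  simp only [jordan_sub_one_apply, mul_ite, mul_one, mul_zero]
  by_cases h : (q.2 : ℕ) + 1 < d q.1
  · rw [dif_pos h, Finset.sum_eq_single ⟨q.1, ⟨(q.2 : ℕ) + 1, h⟩⟩]
    · rw [if_pos ⟨rfl, rfl⟩]
    · intro r _ hr
      exact if_neg fun e => hr ((pos_ext_iff d).2 e)
    · simp
  · rw [dif_neg h]
    refine Finset.sum_eq_zero fun r _ => if_neg ?_
    rintro ⟨h1, h2⟩
    have := r.2.isLt
    have : d r.1 = d q.1 := by rw [h1]
    omega

theorem jordan_mul_apply (M : Matrix (Pos d) (Pos d) F) (p q : Pos d) :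
    ((jordanTypeMatrix d F - 1) * M) p q =
      if h : 0 < (p.2 : ℕ) then M ⟨p.1, ⟨(p.2 : ℕ) - 1, by omega⟩⟩ q else 0 :=
  congrFun (UnipForms.jordanTypeMatrix_sub_one_mulVec d fun r => M r q) p

theorem commute_iff (M : Matrix (Pos d) (Pos d) F) :
    M * jordanTypeMatrix d F = jordanTypeMatrix d F * M ↔
      ∀ p q : Pos d, (M * (jordanTypeMatrix d F - 1)) p q = ((jordanTypeMatrix d F - 1) * M) p q := by
  rw [Matrix.ext_iff, mul_sub, sub_mul, mul_one, one_mul, sub_left_inj]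

theorem mat_commute (x : Unk d → F) : mat d x * jordanTypeMatrix d F = jordanTypeMatrix d F * mat d x := by
  rw [commute_iff]
  intro p q
  rw [mul_jordan_apply, jordan_mul_apply]
  simp only [mat, Matrix.of_apply]
  have := p.2.isLt
  have := q.2.isLt
  split_ifs <;> first
    | rfl
    | omega
    | (congr 1; refine Subtype.ext (Prod.ext rfl ((pos_ext_iff d).2 ⟨rfl, ?_⟩)); dsimp only; omega)

theorem eq_mat {M : Matrix (Pos d) (Pos d) F} (hd : ∀ k, 1 ≤ d k)
    (hM : M * jordanTypeMatrix d F = jordanTypeMatrix d F * M) :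
    M = mat d fun u => M u.1.2 ⟨u.1.1, ⟨0, hd _⟩⟩ := by
  rw [commute_iff] at hM
  have step : ∀ (i : ℕ) (p : Pos d) (k : Fin t) (hi : i < d k),
      M p ⟨k, ⟨i, hi⟩⟩ = if h : i ≤ (p.2 : ℕ) then M ⟨p.1, ⟨(p.2 : ℕ) - i, by omega⟩⟩ ⟨k, ⟨0, hd k⟩⟩ else 0 := by
    intro i
    induction i with
    | zero => intro p k hi; simp
    | succ i ih =>
      intro p k hi
      have h := hM p ⟨k, ⟨i, by omega⟩⟩
      rw [mul_jordan_apply, jordan_mul_apply, dif_pos hi] at h
      rw [h]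
      by_cases h0 : 0 < (p.2 : ℕ)
      · rw [dif_pos h0, ih _ k (by omega)]
        by_cases h1 : i + 1 ≤ (p.2 : ℕ)
        · rw [dif_pos (show i ≤ (p.2 : ℕ) - 1 by omega), dif_pos h1]
          congr 1
          exact (pos_ext_iff d).2 ⟨rfl, by dsimp only; omega⟩
        · rw [dif_neg (show ¬ i ≤ (p.2 : ℕ) - 1 by omega), dif_neg h1]
      · rw [dif_neg h0, dif_neg (by omega)]
  ext p ⟨k, i⟩
  rw [show (i : Fin (d k)) = ⟨i.val, i.isLt⟩ from rfl, step i.val p k i.isLt]
  simp only [mat, Matrix.of_apply]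
  by_cases h : (i : ℕ) ≤ (p.2 : ℕ)
  · rw [dif_pos h]
    by_cases h2 : d p.1 ≤ (p.2 : ℕ) - (i : ℕ) + d k
    · rw [dif_pos ⟨h, h2⟩]
    · rw [dif_neg fun e => h2 e.2]
      -- the coordinate is killed by the relation for the last column of block `k`
      have hk := hd k
      have := p.2.isLt
      have hj : (p.2 : ℕ) - (i : ℕ) + d k < d p.1 := by omega
      have h3 := hM ⟨p.1, ⟨(p.2 : ℕ) - (i : ℕ) + d k, hj⟩⟩ ⟨k, ⟨d k - 1, by omega⟩⟩
      rw [mul_jordan_apply, jordan_mul_apply, dif_neg (by dsimp only; omega),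
        dif_pos (by dsimp only; omega), step (d k - 1) _ k (by omega), dif_pos (by dsimp only; omega)] at h3
      rw [h3]
      congr 1
      exact (pos_ext_iff d).2 ⟨rfl, by dsimp only; omega⟩
  · rw [dif_neg h, dif_neg fun e => h e.1]

/-- The last coordinate of a block. -/
def top (hd : ∀ k, 1 ≤ d k) (k : Fin t) : Pos d := ⟨k, ⟨d k - 1, Nat.sub_lt (hd k) one_pos⟩⟩

theorem mat_apply_top (hd : ∀ k, 1 ≤ d k) (x : Unk d → F) (p : Pos d) (k : Fin t)
    (hp : (p.2 : ℕ) + 1 ≠ d p.1) : mat d x p (top d hd k) = 0 := by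
  simp only [mat, Matrix.of_apply, top]
  refine dif_neg ?_
  have := p.2.isLt
  have := hd k
  omega

theorem mulVec_of_support (hd : ∀ k, 1 ≤ d k) (M : Matrix (Pos d) (Pos d) F) {x : Pos d → F}
    (hx : ∀ q : Pos d, (q.2 : ℕ) + 1 ≠ d q.1 → x q = 0) (p : Pos d) :
    (M *ᵥ x) p = ∑ k, M p (top d hd k) * x (top d hd k) := by
  rw [Matrix.mulVec, dotProduct, Fintype.sum_sigma]
  refine Finset.sum_congr rfl fun k _ => Finset.sum_eq_single _ (fun i _ hi => ?_) (by simp)
  rw [hx ⟨k, i⟩ (fun e => hi (Fin.ext (show (i : ℕ) = d k - 1 by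
    have e' : (i : ℕ) + 1 = d k := e
    omega))), mul_zero]

/-- The action on the vectors killed by the nilpotent part. -/
def topMat (hd : ∀ k, 1 ≤ d k) (x : Unk d → F) : Matrix (Fin t) (Fin t) F :=
  (mat d x).submatrix (top d hd) (top d hd)

theorem det_mat_ne_zero_iff (hd : ∀ k, 1 ≤ d k) (x : Unk d → F) :
    (mat d x).det ≠ 0 ↔ (topMat d hd x).det ≠ 0 := by
  classical
  rw [not_iff_not, ← Matrix.exists_mulVec_eq_zero_iff, ← Matrix.exists_mulVec_eq_zero_iff]
  constructor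
  · rintro ⟨v, hv, hMv⟩
    set N : Module.End F (Pos d → F) := Matrix.toLinAlgEquiv' (jordanTypeMatrix d F - 1) with hN
    have hcomm : ∀ w, mat d x *ᵥ N w = N (mat d x *ᵥ w) := by
      intro w
      show mat d x *ᵥ ((jordanTypeMatrix d F - 1) *ᵥ w) = (jordanTypeMatrix d F - 1) *ᵥ (mat d x *ᵥ w)
      rw [Matrix.mulVec_mulVec, Matrix.mulVec_mulVec, mul_sub, sub_mul, mul_one, one_mul, mat_commute]
    have hNf : N = LinRep.JordanType.shiftFun d :=
      LinearMap.ext fun w => UnipForms.jordanTypeMatrix_sub_one_mulVec d w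
    obtain ⟨m, hm⟩ := (hNf ▸ UnipForms.isNilpotent_shiftFun d : IsNilpotent N)
    have hex : ∃ i, (N ^ i) v = 0 := ⟨m, by rw [hm, LinearMap.zero_apply]⟩
    obtain ⟨i, hi⟩ : ∃ i, Nat.find hex = i + 1 := Nat.exists_eq_succ_of_ne_zero fun e => hv (by
      have := Nat.find_spec hex
      rw [e] at this
      simpa using this)
    set w := (N ^ i) v
    have hw0 : w ≠ 0 := Nat.find_min hex (by omega)
    have hNw : N w = 0 := by
      have := Nat.find_spec hex
      rwa [hi, pow_succ', Module.End.mul_apply] at this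
    have hMw : mat d x *ᵥ w = 0 := by
      have : ∀ j, mat d x *ᵥ ((N ^ j) v) = 0 := fun j => by
        induction j with
        | zero => simpa using hMv
        | succ j ih => rw [pow_succ', Module.End.mul_apply, hcomm, ih, map_zero]
      exact this i
    have hsupp : ∀ q : Pos d, (q.2 : ℕ) + 1 ≠ d q.1 → w q = 0 := by
      intro q hq
      have hlt : (q.2 : ℕ) + 1 < d q.1 := by have := q.2.isLt; omega
      have h := congrFun hNw ⟨q.1, ⟨(q.2 : ℕ) + 1, hlt⟩⟩
      rw [hNf] at h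
      simpa [LinRep.JordanType.shiftFun] using h
    refine ⟨fun k => w (top d hd k), fun e => hw0 (funext fun q => ?_), funext fun l => ?_⟩
    · by_cases hq : (q.2 : ℕ) + 1 = d q.1
      · have h := congrFun e q.1
        rwa [show top d hd q.1 = q from (pos_ext_iff d).2 ⟨rfl, by simp only [top]; omega⟩] at h
      · exact hsupp q hq
    · have h := congrFun hMw (top d hd l)
      rw [mulVec_of_support d hd _ hsupp] at h
      exact h
  · rintro ⟨y, hy, hTy⟩
    refine ⟨fun q => if (q.2 : ℕ) + 1 = d q.1 then y q.1 else 0, fun e => hy (funext fun k => ?_),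
      funext fun p => ?_⟩
    · have h := congrFun e (top d hd k)
      simpa [top, Nat.sub_add_cancel (hd k)] using h
    · rw [mulVec_of_support d hd _ (fun q hq => if_neg hq), Pi.zero_apply]
      by_cases hp : (p.2 : ℕ) + 1 = d p.1
      · have h := congrFun hTy p.1
        rw [show p = top d hd p.1 from (pos_ext_iff d).2 ⟨rfl, by simp only [top]; omega⟩]
        simpa [topMat, Matrix.mulVec, dotProduct, top, Nat.sub_add_cancel (hd _)] using h
      · exact Finset.sum_eq_zero fun k _ => by rw [mat_apply_top d hd x p k hp, zero_mul]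

/-- The unknowns of the diagonal blocks. -/
def IsDiag (u : Unk d) : Prop := d u.1.2.1 = d u.1.1 ∧ (u.1.2.2 : ℕ) = 0

instance : DecidablePred (IsDiag d) := fun _ => inferInstanceAs (Decidable (_ ∧ _))

theorem topMat_blockTriangular (hd : ∀ k, 1 ≤ d k) (x : Unk d → F) :
    (topMat d hd x).BlockTriangular (OrderDual.toDual ∘ d) := by
  intro l k hlk
  have hlt : d l < d k := hlk
  simp only [topMat, Matrix.submatrix_apply, mat, Matrix.of_apply, top]
  rw [dif_neg]
  rintro ⟨h1, h2⟩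
  have := hd l
  omega

theorem topMat_apply_diag (hd : ∀ k, 1 ≤ d k) (x : Unk d → F) {l k : Fin t} (h : d l = d k) :
    topMat d hd x l k = x ⟨(k, ⟨l, ⟨0, hd l⟩⟩), by dsimp only; omega⟩ := by
  have := hd l
  simp only [topMat, Matrix.submatrix_apply, mat, Matrix.of_apply, top]
  rw [dif_pos (show d k - 1 ≤ d l - 1 ∧ d l ≤ d l - 1 - (d k - 1) + d k by omega)]
  congr 1
  exact Subtype.ext (Prod.ext rfl ((pos_ext_iff d).2 ⟨rfl, by dsimp only; omega⟩))

/-- The diagonal block of size `a`. -/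
abbrev Blk (a : ℕ) : Type := {k : Fin t // d k = a}

/-- Diagonal unknowns as square matrices, one for each block size. -/
def diagEquiv (hd : ∀ k, 1 ≤ d k) :
    ({u : Unk d // IsDiag d u} → F) ≃ ((a : Fin (Finset.univ.sup d + 1)) → Matrix (Blk d a) (Blk d a) F) where
  toFun z a := Matrix.of fun l k => z ⟨⟨(k.1, ⟨l.1, ⟨0, hd l.1⟩⟩),
    by dsimp only; rw [l.2, k.2]; omega⟩, by dsimp only [IsDiag]; rw [l.2, k.2], rfl⟩
  invFun Z u := Z ⟨d u.1.1.1, Nat.lt_succ_of_le (Finset.le_sup (Finset.mem_univ _))⟩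
    ⟨u.1.1.2.1, u.2.1⟩ ⟨u.1.1.1, rfl⟩
  left_inv z := funext fun u => congrArg z (Subtype.ext (Subtype.ext (Prod.ext rfl
    ((pos_ext_iff d).2 ⟨rfl, u.2.2.symm⟩))))
  right_inv Z := by
    funext ⟨a, ha⟩
    ext ⟨l, hl⟩ ⟨k, hk⟩
    dsimp only at hl hk
    subst hk
    rfl

theorem det_toSquareBlock (T : Matrix (Fin t) (Fin t) F) (a : ℕ) :
    (T.toSquareBlock (OrderDual.toDual ∘ d) (OrderDual.toDual a)).det =
      (T.submatrix (Subtype.val : Blk d a → Fin t) Subtype.val).det := by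
  rw [← Matrix.det_submatrix_equiv_self (Equiv.subtypeEquivRight fun k =>
    (⟨fun h => congrArg OrderDual.toDual h, fun h => OrderDual.toDual.injective h⟩ :
      d k = a ↔ (OrderDual.toDual ∘ d) k = OrderDual.toDual a))]
  rfl

theorem det_topMat_ne_zero_iff (hd : ∀ k, 1 ≤ d k) (x : Unk d → F) :
    (topMat d hd x).det ≠ 0 ↔
      ∀ a, (diagEquiv d hd (fun u => x u.1) a).det ≠ 0 := by
  classical
  rw [(topMat_blockTriangular d hd x).det, Finset.prod_ne_zero_iff]
  have key : ∀ a : ℕ, ((topMat d hd x).submatrix (Subtype.val : Blk d a → Fin t) Subtype.val) =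
      Matrix.of fun (l k : Blk d a) => x ⟨(k.1, ⟨l.1, ⟨0, hd l.1⟩⟩), by dsimp only; rw [l.2, k.2]; omega⟩ := by
    intro a
    ext l k
    rw [Matrix.submatrix_apply, topMat_apply_diag d hd x (l.2.trans k.2.symm)]
    rfl
  constructor
  · rintro h ⟨a, ha⟩
    by_cases hne : Nonempty (Blk d a)
    · obtain ⟨k⟩ := hne
      have h1 := h (OrderDual.toDual a)
        (Finset.mem_image.2 ⟨k.1, Finset.mem_univ _, congrArg OrderDual.toDual k.2⟩)
      rw [det_toSquareBlock, key] at h1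
      exact h1
    · haveI : IsEmpty (Blk d ((⟨a, ha⟩ : Fin (Finset.univ.sup d + 1)) : ℕ)) := not_nonempty_iff.1 hne
      rw [Matrix.det_isEmpty]
      exact one_ne_zero
  · intro h a ha
    obtain ⟨k, -, rfl⟩ := Finset.mem_image.1 ha
    show ((topMat d hd x).toSquareBlock (OrderDual.toDual ∘ d) (OrderDual.toDual (d k))).det ≠ 0
    rw [det_toSquareBlock, key]
    exact h ⟨d k, Nat.lt_succ_of_le (Finset.le_sup (Finset.mem_univ _))⟩

/-- The centraliser as tuples of unknowns. -/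
noncomputable def centEquiv (hd : ∀ k, 1 ≤ d k) :
    {x : Unk d → F // (mat d x).det ≠ 0} ≃
      {g : GL (Pos d) F // (g : Matrix (Pos d) (Pos d) F) * jordanTypeMatrix d F =
        jordanTypeMatrix d F * (g : Matrix (Pos d) (Pos d) F)} where
  toFun x := ⟨Matrix.GeneralLinearGroup.mkOfDetNeZero (mat d x.1) x.2, mat_commute d x.1⟩
  invFun g := ⟨fun u => (g.1 : Matrix (Pos d) (Pos d) F) u.1.2 ⟨u.1.1, ⟨0, hd _⟩⟩, by
    rw [← eq_mat d hd g.2]
    exact ((Matrix.isUnit_iff_isUnit_det _).1 g.1.isUnit).ne_zero⟩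
  left_inv x := by
    refine Subtype.ext (funext fun u => ?_)
    show mat d x.1 u.1.2 ⟨u.1.1, ⟨0, hd _⟩⟩ = x.1 u
    simp only [mat, Matrix.of_apply]
    have h2 : d u.1.2.1 ≤ (u.1.2.2 : ℕ) - 0 + d u.1.1 := u.2
    rw [dif_pos ⟨Nat.zero_le _, h2⟩]
    rfl
  right_inv g := Subtype.ext (Units.ext (eq_mat d hd g.2).symm)

end Cfsg.Agent.UnipCentralizer
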