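/-
The order of the centraliser of a unipotent block matrix in GL.
-/
import Cfsg.Agent.Lib.UnipCentralizer.Commutant

set_option autoImplicit false
set_option linter.unusedSectionVars false

namespace Cfsg.Agent.UnipCentralizer

open Matrix

variable {F : Type*} [Field F] {t : ℕ} (d : Fin t → ℕ)

theorem card_det_ne_zero [Fintype F] {q : ℕ} (hF : Fintype.card F = q) {β : Type*} [Fintype β] [DecidableEq β] :
    Nat.card {M : Matrix β β F // M.det ≠ 0} =
      ∏ j : Fin (Fintype.card β), (q ^ Fintype.card β - q ^ (j : ℕ)) := by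
  classical
  subst hF
  rw [← Matrix.card_GL_field (𝔽 := F) (Fintype.card β)]
  refine Nat.card_congr
    { toFun := fun M => Matrix.GeneralLinearGroup.mkOfDetNeZero
        (Matrix.reindex (Fintype.equivFin β) (Fintype.equivFin β) M.1) (by
          rw [Matrix.det_reindex_self]; exact M.2)
      invFun := fun g => ⟨Matrix.reindex (Fintype.equivFin β).symm (Fintype.equivFin β).symm
          (g : Matrix (Fin (Fintype.card β)) (Fin (Fintype.card β)) F), by
        rw [Matrix.det_reindex_self]
        exact ((Matrix.isUnit_iff_isUnit_det _).1 g.isUnit).ne_zero⟩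
      left_inv := fun M => Subtype.ext (by
        show Matrix.reindex _ _ (Matrix.reindex _ _ M.1) = M.1
        ext i j
        simp)
      right_inv := fun g => Units.ext (by
        show Matrix.reindex _ _ (Matrix.reindex _ _ _) = _
        ext i j
        simp) }

theorem card_blk (a : ℕ) :
    Fintype.card (Blk d a) = (Finset.univ.filter fun k : Fin t => d k = a).card :=
  Fintype.card_subtype _

theorem card_unk : Nat.card (Unk d) = ∑ k : Fin t, ∑ l : Fin t, min (d k) (d l) := by
  let e : Unk d ≃ Σ k : Fin t, Σ l : Fin t, Fin (min (d k) (d l)) :=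
    { toFun := fun u => ⟨u.1.1, u.1.2.1, ⟨(u.1.2.2 : ℕ) - (d u.1.2.1 - d u.1.1), by
        have := u.1.2.2.isLt; have := u.2; omega⟩⟩
      invFun := fun s => ⟨(s.1, ⟨s.2.1, ⟨(s.2.2 : ℕ) + (d s.2.1 - d s.1), by have := s.2.2.isLt; omega⟩⟩),
        by dsimp only; have := s.2.2.isLt; omega⟩
      left_inv := fun u => Subtype.ext (Prod.ext rfl ((pos_ext_iff d).2 ⟨rfl, by
        dsimp only; have := u.1.2.2.isLt; have := u.2; omega⟩))
      right_inv := fun s => by
        obtain ⟨k, l, i⟩ := s
        refine congrArg (Sigma.mk k) (congrArg (Sigma.mk l) (Fin.ext ?_))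
        dsimp only
        omega }
  rw [Nat.card_congr e, Nat.card_eq_fintype_card]
  simp

theorem card_diag (hd : ∀ k, 1 ≤ d k) :
    Nat.card {u : Unk d // IsDiag d u} =
      ∑ a ∈ Finset.range (Finset.univ.sup d + 1), (Finset.univ.filter fun k : Fin t => d k = a).card ^ 2 := by
  let e : {u : Unk d // IsDiag d u} ≃ Σ a : Fin (Finset.univ.sup d + 1), Blk d a × Blk d a :=
    { toFun := fun u => ⟨⟨d u.1.1.1, Nat.lt_succ_of_le (Finset.le_sup (Finset.mem_univ _))⟩,
        ⟨u.1.1.2.1, u.2.1⟩, ⟨u.1.1.1, rfl⟩⟩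
      invFun := fun s => ⟨⟨(s.2.2.1, ⟨s.2.1.1, ⟨0, hd _⟩⟩),
        by dsimp only; rw [s.2.1.2, s.2.2.2]; omega⟩, by dsimp only [IsDiag]; rw [s.2.1.2, s.2.2.2], rfl⟩
      left_inv := fun u => Subtype.ext (Subtype.ext (Prod.ext rfl ((pos_ext_iff d).2 ⟨rfl, u.2.2.symm⟩)))
      right_inv := fun s => by
        obtain ⟨⟨a, ha⟩, ⟨l, hl⟩, ⟨k, hk⟩⟩ := s
        dsimp only at hl hk
        subst hk
        rfl }
  rw [Nat.card_congr e, Nat.card_eq_fintype_card, Fintype.card_sigma,
    ← Fin.sum_univ_eq_sum_range fun a => (Finset.univ.filter fun k : Fin t => d k = a).card ^ 2]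
  simp only [Fintype.card_prod, card_blk, pow_two]

theorem card_split [Fintype F] (hd : ∀ k, 1 ≤ d k) :
    Nat.card {x : Unk d → F // (mat d x).det ≠ 0} =
      Fintype.card F ^ Nat.card {u : Unk d // ¬ IsDiag d u} *
        ∏ a : Fin (Finset.univ.sup d + 1), Nat.card {M : Matrix (Blk d a) (Blk d a) F // M.det ≠ 0} := by
  classical
  let e : (Unk d → F) ≃ (({u : Unk d // IsDiag d u} → F) × ({u : Unk d // ¬ IsDiag d u} → F)) :=
    Equiv.piEquivPiSubtypeProd (IsDiag d) fun _ => F
  let E : {x : Unk d → F // (mat d x).det ≠ 0} ≃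
      ((a : Fin (Finset.univ.sup d + 1)) → {M : Matrix (Blk d a) (Blk d a) F // M.det ≠ 0}) ×
        ({u : Unk d // ¬ IsDiag d u} → F) :=
    ((e.subtypeEquiv (p := fun x => (mat d x).det ≠ 0)
      (q := fun y => ∀ a, (diagEquiv d hd y.1 a).det ≠ 0) fun x => by
        rw [det_mat_ne_zero_iff d hd, det_topMat_ne_zero_iff d hd]
        exact Iff.rfl).trans (Equiv.prodSubtypeFstEquivSubtypeProd
          (p := fun z : {u : Unk d // IsDiag d u} → F => ∀ a, (diagEquiv d hd z a).det ≠ 0))).trans
      (Equiv.prodCongr (((diagEquiv (F := F) d hd).subtypeEquiv (q := fun Z => ∀ a, (Z a).det ≠ 0) fun _ => Iff.rfl).trans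
        (Equiv.subtypePiEquivPi (p := fun (a : Fin (Finset.univ.sup d + 1)) (M : Matrix (Blk d a) (Blk d a) F) => M.det ≠ 0))) (Equiv.refl _))
  rw [Nat.card_congr E, Nat.card_prod, Nat.card_pi, Nat.card_fun, mul_comm,
    Nat.card_eq_fintype_card (α := F)]

theorem sum_fiber (g : ℕ → ℕ) :
    ∑ k : Fin t, g (d k) =
      ∑ i ∈ Finset.range (Finset.univ.sup d + 1), (Finset.univ.filter fun k : Fin t => d k = i).card * g i := by
  rw [← Finset.sum_fiberwise_of_maps_to (g := d) (t := Finset.range (Finset.univ.sup d + 1))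
    (fun k _ => Finset.mem_range.2 (Nat.lt_succ_of_le (Finset.le_sup (Finset.mem_univ k))))]
  refine Finset.sum_congr rfl fun i _ => ?_
  rw [Finset.card_eq_sum_ones, Finset.sum_mul, one_mul]
  exact Finset.sum_congr rfl fun k hk => congrArg g (Finset.mem_filter.1 hk).2

/-- The exponent of `q`. -/
theorem exponent_eq (hd : ∀ k, 1 ≤ d k) :
    Nat.card {u : Unk d // ¬ IsDiag d u} =
      2 * (∑ i ∈ Finset.range (Finset.univ.sup d + 1), ∑ j ∈ Finset.range (Finset.univ.sup d + 1),
        if i < j then i * (Finset.univ.filter (fun k : Fin t => d k = i)).card *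
          (Finset.univ.filter (fun k : Fin t => d k = j)).card else 0) +
      ∑ i ∈ Finset.range (Finset.univ.sup d + 1),
        (i - 1) * (Finset.univ.filter (fun k : Fin t => d k = i)).card ^ 2 := by
  classical
  obtain ⟨a, ha⟩ : ∃ a : ℕ → ℕ, ∀ i, (Finset.univ.filter (fun k : Fin t => d k = i)).card = a i :=
    ⟨_, fun _ => rfl⟩
  have h0 : a 0 = 0 := by
    rw [← ha]
    simp only [Finset.card_eq_zero, Finset.filter_eq_empty_iff]
    intro k _
    have := hd k
    omega
  have htot : Nat.card (Unk d) = Nat.card {u : Unk d // IsDiag d u} + Nat.card {u : Unk d // ¬ IsDiag d u} := by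
    rw [← Nat.card_sum]
    exact Nat.card_congr (Equiv.sumCompl _).symm
  rw [card_unk, card_diag d hd] at htot
  simp only [ha] at htot ⊢
  set R := Finset.range (Finset.univ.sup d + 1)
  have hmin : ∑ k : Fin t, ∑ l : Fin t, min (d k) (d l) = ∑ i ∈ R, ∑ j ∈ R, min i j * a i * a j := by
    rw [sum_fiber d fun i => ∑ l : Fin t, min i (d l)]
    refine Finset.sum_congr rfl fun i _ => ?_
    rw [sum_fiber d (fun j => min i j), Finset.mul_sum]
    exact Finset.sum_congr rfl fun j _ => by simp only [ha]; ring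
  have hpt : ∀ i j : ℕ, min i j * a i * a j =
      (if i < j then i * a i * a j else 0) + (if j < i then j * a j * a i else 0) +
        (if i = j then i * a i ^ 2 else 0) := by
    intro i j
    rcases lt_trichotomy i j with h | rfl | h
    · rw [if_pos h, if_neg (by omega), if_neg (by omega), min_eq_left h.le]; ring
    · simp only [lt_irrefl, if_false, if_true, min_self, zero_add]; ring
    · rw [if_neg (by omega), if_pos h, if_neg (by omega), min_eq_right h.le]; ring
  have hdiag : ∀ i ∈ R, (∑ j ∈ R, if i = j then i * a i ^ 2 else 0) = (i - 1) * a i ^ 2 + a i ^ 2 := by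
    intro i hi
    rw [Finset.sum_ite_eq R i, if_pos hi]
    rcases i with _ | i
    · simp [h0]
    · rw [Nat.add_sub_cancel]; ring
  have hcomm : (∑ i ∈ R, ∑ j ∈ R, if j < i then j * a j * a i else 0) =
      ∑ i ∈ R, ∑ j ∈ R, if i < j then i * a i * a j else 0 := Finset.sum_comm
  simp only [hpt, Finset.sum_add_distrib] at hmin
  rw [hcomm, Finset.sum_congr rfl hdiag, Finset.sum_add_distrib] at hmin
  omega

theorem card_centralizer [Fintype F] {q : ℕ} (hF : Fintype.card F = q) (hd : ∀ k, 1 ≤ d k) :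
    Nat.card {g : GL (Pos d) F // (g : Matrix (Pos d) (Pos d) F) * jordanTypeMatrix d F =
        jordanTypeMatrix d F * (g : Matrix (Pos d) (Pos d) F)} =
      q ^ Nat.card {u : Unk d // ¬ IsDiag d u} *
        ∏ i ∈ Finset.range (Finset.univ.sup d + 1),
          ∏ j : Fin ((Finset.univ.filter (fun k : Fin t => d k = i)).card),
            (q ^ (Finset.univ.filter (fun k : Fin t => d k = i)).card - q ^ (j : ℕ)) := by
  classical
  rw [← Nat.card_congr (centEquiv d hd), card_split d hd, hF]
  congr 1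
  rw [← Fin.prod_univ_eq_prod_range (fun i => ∏ j : Fin ((Finset.univ.filter (fun k : Fin t => d k = i)).card),
    (q ^ (Finset.univ.filter (fun k : Fin t => d k = i)).card - q ^ (j : ℕ)))]
  refine Finset.prod_congr rfl fun a _ => ?_
  rw [card_det_ne_zero hF]
  exact Fintype.prod_equiv (finCongr (card_blk d a)) _ _ fun j => by simp [card_blk]

end Cfsg.Agent.UnipCentralizer
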