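/-
The order of the centraliser of a unipotent element in the general unitary group.
-/
import Cfsg.Agent.Lib.UnipCentralizer.Count
import Cfsg.Agent.Lib.Semisimple.UnitaryConj

set_option autoImplicit false
set_option linter.unusedSectionVars false

open Cfsg
open scoped Matrix

namespace Cfsg.Agent.UnipCentralizer.Unitary

open Forms Cfsg.Agent.UnipCentralizer UnitaryConj

section Index

variable {t : ℕ}

variable (d : Fin t → ℕ)

/-- The duality of the unknowns. -/
def swap (u : Unk d) : Unk d :=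
  ⟨(u.1.2.1, ⟨u.1.1, ⟨(u.1.2.2 : ℕ) + d u.1.1 - d u.1.2.1, by
      have := u.1.2.2.isLt; have := u.2; omega⟩⟩), by
    dsimp only; have := u.2; omega⟩

theorem swap_involutive : Function.Involutive (swap d) := fun u => by
  refine Subtype.ext (Prod.ext rfl ((pos_ext_iff d).2 ⟨rfl, ?_⟩))
  have := u.2
  simp only [swap]
  omega

theorem swap_isDiag {u : Unk d} : IsDiag d (swap d u) ↔ IsDiag d u := by
  have := u.2
  simp only [IsDiag, swap]
  omega

/-- The reversal of the blocks. -/
def rev : Pos d ≃ Pos d := Equiv.sigmaCongrRight fun k => Fin.revPerm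

theorem rev_fst (p : Pos d) : (rev d p).1 = p.1 := rfl

theorem rev_snd (p : Pos d) : ((rev d p).2 : ℕ) = d p.1 - ((p.2 : ℕ) + 1) := Fin.val_rev _

theorem rev_rev (p : Pos d) : rev d (rev d p) = p := by
  refine (pos_ext_iff d).2 ⟨rfl, ?_⟩
  rw [rev_snd, rev_snd]
  have := p.2.isLt
  simp only [rev_fst]
  omega

end Index

variable {F : Type*} [Field F] [Fintype F] {q : ℕ} (hF : Fintype.card F = q ^ 2) {n t : ℕ}

/-- The hermitian units commuting with `g`. -/
abbrev HermUnit (g : Matrix (Fin n) (Fin n) F) : Type _ :=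
  {M : Matrix (Fin n) (Fin n) F // IsUnit M ∧ adj hF M = M ∧ Commute M g}

include hF in
/-- The commutant acts transitively on the hermitian units, with the unitary centraliser as stabiliser. -/
theorem card_commutant (g : GU n F q) :
    Nat.card {c : GL (Fin n) F // Commute c (g : GL (Fin n) F)} =
      Nat.card ↥(Subgroup.centralizer ({g} : Set (GU n F q))) *
        Nat.card (HermUnit hF ((g : GL (Fin n) F) : Matrix (Fin n) (Fin n) F)) := by
  classical
  set G := ((g : GL (Fin n) F) : Matrix (Fin n) (Fin n) F) with hG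
  have hg : adj hF G * G = 1 := (mem_GU_iff hF _).1 g.2
  have hg' : G * adj hF G = 1 := mul_eq_one_comm.1 hg
  have hadj : ∀ c : Matrix (Fin n) (Fin n) F, Commute c G → Commute (adj hF c) G := by
    intro c hc
    have h : adj hF G * adj hF c = adj hF c * adj hF G := by rw [← adj_mul, ← adj_mul, hc.eq]
    show adj hF c * G = G * adj hF c
    calc adj hF c * G = G * (adj hF G * adj hF c) * G := by rw [← mul_assoc, hg', one_mul]
      _ = G * adj hF c * (adj hF G * G) := by rw [h]; simp only [mul_assoc]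
      _ = G * adj hF c := by rw [hg, mul_one]
  let C := {c : GL (Fin n) F // Commute c (g : GL (Fin n) F)}
  let f : C → HermUnit hF G := fun c =>
    ⟨adj hF (c.1 : Matrix (Fin n) (Fin n) F) * c.1, by
      refine ⟨IsUnit.mul (IsUnit.of_mul_eq_one (adj hF (↑c.1⁻¹ : Matrix (Fin n) (Fin n) F)) ?_) c.1.isUnit,
        by rw [adj_mul, adj_adj], (hadj _ ?_).mul_left ?_⟩
      · rw [← adj_mul, Units.inv_mul, adj_one]
      · exact c.2.map (Units.coeHom _)
      · exact c.2.map (Units.coeHom _)⟩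
  have hsurj : Function.Surjective f := by
    rintro ⟨M, hMu, hMs, hMc⟩
    obtain ⟨c, hc, hcG⟩ := exists_adj_mul_self_eq hF hMu hMs hMc
    have hcu : IsUnit c := by
      rw [Matrix.isUnit_iff_isUnit_det]
      have h1 : IsUnit (adj hF c * c).det := by rw [hc, ← Matrix.isUnit_iff_isUnit_det]; exact hMu
      rw [Matrix.det_mul] at h1
      exact (IsUnit.mul_iff.1 h1).2
    exact ⟨⟨hcu.unit, Units.ext hcG.eq⟩, Subtype.ext hc⟩
  have hfib : ∀ H, Nat.card {c : C // f c = H} = Nat.card ↥(Subgroup.centralizer ({g} : Set (GU n F q))) := by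
    intro H
    obtain ⟨c₀, hc₀⟩ := hsurj H
    subst hc₀
    have hiff : ∀ c : C, f c = f c₀ ↔ c.1 * c₀.1⁻¹ ∈ GU n F q := by
      intro c
      have ha : adj hF (↑c₀.1⁻¹ : Matrix (Fin n) (Fin n) F) * adj hF (c₀.1 : Matrix (Fin n) (Fin n) F) = 1 := by
        rw [← adj_mul, Units.mul_inv, adj_one]
      have ha' := mul_eq_one_comm.1 ha
      rw [mem_GU_iff hF, Units.val_mul, adj_mul, Subtype.ext_iff]
      show adj hF (c.1 : Matrix (Fin n) (Fin n) F) * c.1 = adj hF (c₀.1 : Matrix (Fin n) (Fin n) F) * c₀.1 ↔ _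
      constructor
      · intro h
        calc _ = adj hF (↑c₀.1⁻¹ : Matrix (Fin n) (Fin n) F) *
              (adj hF (c.1 : Matrix (Fin n) (Fin n) F) * c.1) * ↑c₀.1⁻¹ := by simp only [mul_assoc]
          _ = (adj hF (↑c₀.1⁻¹ : Matrix (Fin n) (Fin n) F) * adj hF (c₀.1 : Matrix (Fin n) (Fin n) F)) *
              ((c₀.1 : Matrix (Fin n) (Fin n) F) * ↑c₀.1⁻¹) := by rw [h]; simp only [mul_assoc]
          _ = 1 := by rw [ha, Units.mul_inv, one_mul]
      · intro h
        calc adj hF (c.1 : Matrix (Fin n) (Fin n) F) * c.1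
            = (adj hF (c₀.1 : Matrix (Fin n) (Fin n) F) * adj hF (↑c₀.1⁻¹ : Matrix (Fin n) (Fin n) F)) *
              (adj hF (c.1 : Matrix (Fin n) (Fin n) F) * c.1) * ((↑c₀.1⁻¹ : Matrix (Fin n) (Fin n) F) * c₀.1) := by
              rw [ha', Units.inv_mul, one_mul, mul_one]
          _ = adj hF (c₀.1 : Matrix (Fin n) (Fin n) F) * ((adj hF (↑c₀.1⁻¹ : Matrix (Fin n) (Fin n) F) *
              adj hF (c.1 : Matrix (Fin n) (Fin n) F)) * ((c.1 : Matrix (Fin n) (Fin n) F) * ↑c₀.1⁻¹)) * c₀.1 := by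
              simp only [mul_assoc]
          _ = adj hF (c₀.1 : Matrix (Fin n) (Fin n) F) * c₀.1 := by rw [h, mul_one]
    refine Nat.card_congr
      { toFun := fun c => ⟨⟨c.1.1 * c₀.1⁻¹, (hiff c.1).1 c.2⟩, Subgroup.mem_centralizer_singleton_iff.2
          (Subtype.ext ((c.1.2.mul_left c₀.2.inv_left).eq))⟩
        invFun := fun u => ⟨⟨(u.1 : GL (Fin n) F) * c₀.1, Commute.mul_left
            (congrArg Subtype.val (Subgroup.mem_centralizer_singleton_iff.1 u.2)) c₀.2⟩,
          (hiff _).2 (by rw [mul_inv_cancel_right]; exact u.1.2)⟩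
        left_inv := fun c => Subtype.ext (Subtype.ext (inv_mul_cancel_right _ _))
        right_inv := fun u => Subtype.ext (Subtype.ext (mul_inv_cancel_right _ _)) }
  rw [← Nat.card_congr (Equiv.sigmaFiberEquiv f), Nat.card_sigma, Finset.sum_congr rfl fun H _ => hfib H,
    Finset.sum_const, smul_eq_mul, Finset.card_univ, ← Nat.card_eq_fintype_card, mul_comm]

include hF in
/-- The number of functions fixed by a semilinear involution. -/
theorem card_fixed {S : Type*} [Fintype S] (τ : S → S) (hτ : Function.Involutive τ) :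
    Nat.card {x : S → F // ∀ u, qEnd hF (x u) = x (τ u)} = q ^ Nat.card S := by
  classical
  obtain ⟨θ, hθ⟩ : ∃ l : F, qEnd hF l ≠ l := by
    by_contra hc
    push Not at hc
    exact qEnd_ne_id hF (RingHom.ext hc)
  set X := {x : S → F // ∀ u, qEnd hF (x u) = x (τ u)} with hX
  have hd : θ - qEnd hF θ ≠ 0 := sub_ne_zero.2 (Ne.symm hθ)
  have hbij : Function.Bijective fun ab : X × X => fun u => ab.1.1 u + θ * ab.2.1 u := by
    constructor
    · rintro ⟨a, b⟩ ⟨a', b'⟩ h
      have h1 : ∀ u, a.1 u + θ * b.1 u = a'.1 u + θ * b'.1 u := congrFun h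
      have h2 : ∀ u, b.1 u = b'.1 u := fun u => by
        have e := congrArg (qEnd hF) (h1 (τ u))
        simp only [map_add, map_mul, a.2, b.2, a'.2, b'.2, hτ u] at e
        refine mul_left_cancel₀ hd ?_
        linear_combination h1 u - e
      refine Prod.ext (Subtype.ext (funext fun u => ?_)) (Subtype.ext (funext h2))
      have := h1 u
      rw [h2 u] at this
      exact add_right_cancel this
    · intro x
      have hfx : ∀ y z : F, qEnd hF ((y - qEnd hF z) / (θ - qEnd hF θ)) =
          (z - qEnd hF y) / (θ - qEnd hF θ) := fun y z => by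
        rw [map_div₀, map_sub, map_sub, qEnd_qEnd, qEnd_qEnd,
          ← neg_sub z, ← neg_sub θ, neg_div_neg_eq]
      let b : X := ⟨fun u => (x u - qEnd hF (x (τ u))) / (θ - qEnd hF θ), fun u => by
        rw [hfx]; dsimp only; rw [hτ u]⟩
      refine ⟨(⟨fun u => x u - θ * b.1 u, fun u => ?_⟩, b), funext fun u => sub_add_cancel _ _⟩
      rw [map_sub, map_mul, b.2]
      simp only [b, hτ u]
      field_simp
      ring
  have h := Nat.card_eq_of_bijective _ hbij
  rw [Nat.card_prod, Nat.card_fun, Nat.card_eq_fintype_card (α := F), hF, ← pow_mul, mul_comm 2, pow_mul,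
    sq] at h
  exact Nat.mul_self_inj.1 h

variable (d : Fin t → ℕ)

theorem jordan_rev (p r : Pos d) :
    (jordanTypeMatrix d F - 1) p (rev d r) = (jordanTypeMatrix d F - 1) r (rev d p) := by
  rw [jordan_sub_one_apply, jordan_sub_one_apply]
  refine if_congr ?_ rfl rfl
  rw [rev_snd, rev_snd]
  show p.1 = r.1 ∧ _ ↔ r.1 = p.1 ∧ _
  have := p.2.isLt
  have := r.2.isLt
  constructor <;> rintro ⟨h1, h2⟩ <;> refine ⟨h1.symm, ?_⟩ <;>
  · have h3 := congrArg d h1
    omega

/-- Hermitian for the reversed form. -/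
def IsSym (X : Matrix (Pos d) (Pos d) F) : Prop :=
  ∀ p r, qEnd hF (X (rev d p) r) = X (rev d r) p

theorem isSym_mat_iff (hd : ∀ k, 1 ≤ d k) (x : Unk d → F) :
    IsSym hF d (mat d x) ↔ ∀ u, qEnd hF (x u) = x (swap d u) := by
  constructor
  · intro h u
    obtain ⟨⟨k, ⟨l, s⟩⟩, hu⟩ := u
    have hs := s.isLt
    have := hd k
    dsimp only at hu
    have h1 := h (rev d ⟨l, s⟩) ⟨k, ⟨0, hd k⟩⟩
    rw [rev_rev] at h1
    simp only [mat, Matrix.of_apply, rev_fst, rev_snd] at h1
    rw [dif_pos (by omega), dif_pos (by omega)] at h1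
    convert h1 using 3 <;>
      (first
        | refine Subtype.ext (Prod.ext rfl ((pos_ext_iff d).2 ⟨rfl, ?_⟩))
        | refine Prod.ext rfl ((pos_ext_iff d).2 ⟨rfl, ?_⟩)) <;> simp only [swap] <;> omega
  · intro h p r
    simp only [mat, Matrix.of_apply, rev_fst, rev_snd]
    have := p.2.isLt
    have := r.2.isLt
    split_ifs with h1 h2 h2
    · rw [h]
      congr 1
      refine Subtype.ext (Prod.ext rfl ((pos_ext_iff d).2 ⟨rfl, ?_⟩))
      simp only [swap]
      omega
    · omega
    · omega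
    · exact map_zero _

/-- The hermitian members of the commutant. -/
abbrev SymUnit : Type _ :=
  {x : Unk d → F // (mat d x).det ≠ 0 ∧ ∀ u, qEnd hF (x u) = x (swap d u)}

/-- Invertible hermitian matrices. -/
abbrev HermInv (β : Type*) [Fintype β] [DecidableEq β] : Type _ :=
  {M : Matrix β β F // M.det ≠ 0 ∧ ∀ i j, qEnd hF (M i j) = M j i}

include hF in
theorem card_gl_eq (a : ℕ) :
    ∏ j : Fin a, ((q ^ 2) ^ a - (q ^ 2) ^ (j : ℕ)) = Nat.card (GU a F q) * Nat.card (HermInv hF (Fin a)) := by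
  classical
  have h := card_commutant hF (1 : GU a F q)
  have h1 : Subgroup.centralizer ({1} : Set (GU a F q)) = ⊤ := by
    ext x; simp [Subgroup.mem_centralizer_singleton_iff]
  rw [h1, Subgroup.card_top, Nat.card_congr (Equiv.subtypeUnivEquiv fun c => by simp),
    Matrix.card_GL_field (𝔽 := F) a, hF] at h
  rw [h]
  congr 1
  refine Nat.card_congr (Equiv.subtypeEquivRight fun M => ?_)
  rw [Matrix.isUnit_iff_isUnit_det, isUnit_iff_ne_zero]
  constructor
  · rintro ⟨h1, h2, -⟩
    exact ⟨h1, fun i j => congrFun (congrFun h2 j) i⟩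
  · rintro ⟨h1, h2⟩
    exact ⟨h1, Matrix.ext fun i j => h2 j i, by simp⟩

include hF in
theorem card_symUnit (hd : ∀ k, 1 ≤ d k) :
    Nat.card (SymUnit hF d) = q ^ Nat.card {u : Unk d // ¬ IsDiag d u} *
      ∏ i ∈ Finset.range (Finset.univ.sup d + 1),
        Nat.card (HermInv hF (Fin (Finset.univ.filter fun k : Fin t => d k = i).card)) := by
  classical
  let τd : {u : Unk d // IsDiag d u} → {u : Unk d // IsDiag d u} := fun u => ⟨swap d u.1, (swap_isDiag d).2 u.2⟩
  let τn : {u : Unk d // ¬ IsDiag d u} → {u : Unk d // ¬ IsDiag d u} :=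
    fun u => ⟨swap d u.1, fun h => u.2 ((swap_isDiag d).1 h)⟩
  have hiff : ∀ x : Unk d → F,
      ((mat d x).det ≠ 0 ∧ ∀ u, qEnd hF (x u) = x (swap d u)) ↔
        (∀ a, (diagEquiv d hd (fun u => x u.1) a).det ≠ 0 ∧
          ∀ i j, qEnd hF (diagEquiv d hd (fun u => x u.1) a i j) = diagEquiv d hd (fun u => x u.1) a j i) ∧
          ∀ u : {u : Unk d // ¬ IsDiag d u}, qEnd hF (x u.1) = x (τn u).1 := by
    intro x
    rw [det_mat_ne_zero_iff d hd, det_topMat_ne_zero_iff d hd]
    constructor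
    · rintro ⟨h1, h2⟩
      refine ⟨fun a => ⟨h1 a, fun i j => ?_⟩, fun u => h2 u.1⟩
      show qEnd hF (x _) = x _
      rw [h2]
      congr 1
      refine Subtype.ext (Prod.ext rfl ((pos_ext_iff d).2 ⟨rfl, ?_⟩))
      have := i.2
      have := j.2
      simp only [swap]
      omega
    · rintro ⟨h1, h2⟩
      refine ⟨fun a => (h1 a).1, fun u => ?_⟩
      by_cases hu : IsDiag d u
      · have h3 := (h1 ⟨d u.1.1, Nat.lt_succ_of_le (Finset.le_sup (Finset.mem_univ _))⟩).2
          ⟨u.1.2.1, hu.1⟩ ⟨u.1.1, rfl⟩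
        change qEnd hF (x _) = x _ at h3
        have := hu.1
        have := hu.2
        convert h3 using 3 <;>
          (first
            | refine Subtype.ext (Prod.ext rfl ((pos_ext_iff d).2 ⟨rfl, ?_⟩))
            | refine Prod.ext rfl ((pos_ext_iff d).2 ⟨rfl, ?_⟩)) <;> simp only [swap] <;> omega
      · exact h2 ⟨u, hu⟩
  let e : SymUnit hF d ≃
      {z : {u : Unk d // IsDiag d u} → F // ∀ a, (diagEquiv d hd z a).det ≠ 0 ∧
        ∀ i j, qEnd hF (diagEquiv d hd z a i j) = diagEquiv d hd z a j i} ×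
      {y : {u : Unk d // ¬ IsDiag d u} → F // ∀ u, qEnd hF (y u) = y (τn u)} :=
    ((Equiv.piEquivPiSubtypeProd (IsDiag d) fun _ => F).subtypeEquiv
      (q := fun zy => (∀ a, (diagEquiv d hd zy.1 a).det ≠ 0 ∧
        ∀ i j, qEnd hF (diagEquiv d hd zy.1 a i j) = diagEquiv d hd zy.1 a j i) ∧
          ∀ u, qEnd hF (zy.2 u) = zy.2 (τn u)) hiff).trans (Equiv.subtypeProdEquivProd
      (p := fun z : {u : Unk d // IsDiag d u} → F => ∀ a, (diagEquiv d hd z a).det ≠ 0 ∧
        ∀ i j, qEnd hF (diagEquiv d hd z a i j) = diagEquiv d hd z a j i)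
      (q := fun y : {u : Unk d // ¬ IsDiag d u} → F => ∀ u, qEnd hF (y u) = y (τn u)))
  rw [Nat.card_congr e, Nat.card_prod,
    card_fixed hF τn fun u => Subtype.ext (swap_involutive d u.1),
    Nat.card_congr (((diagEquiv (F := F) d hd).subtypeEquiv
      (q := fun Z => ∀ a, (Z a).det ≠ 0 ∧ ∀ i j, qEnd hF (Z a i j) = Z a j i) fun _ => Iff.rfl).trans
      (Equiv.subtypePiEquivPi (p := fun (a : Fin (Finset.univ.sup d + 1)) (M : Matrix (Blk d a) (Blk d a) F) =>
        M.det ≠ 0 ∧ ∀ i j, qEnd hF (M i j) = M j i))),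
    Nat.card_pi, mul_comm, ← Fin.prod_univ_eq_prod_range
      (fun i => Nat.card (HermInv hF (Fin (Finset.univ.filter fun k : Fin t => d k = i).card)))]
  congr 1
  refine Finset.prod_congr rfl fun a _ => ?_
  let ε : Blk d a ≃ Fin (Finset.univ.filter fun k : Fin t => d k = a).card :=
    Fintype.equivFinOfCardEq (card_blk d a)
  refine Nat.card_congr ((Matrix.reindex ε ε).subtypeEquiv fun M => ?_)
  rw [Matrix.det_reindex_self]
  refine and_congr_right fun _ => ⟨fun h i j => h _ _, fun h i j => ?_⟩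
  simpa using h (ε i) (ε j)

end Cfsg.Agent.UnipCentralizer.Unitary
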