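/-
Congruence of alternating forms for which a nilpotent block matrix is skew-adjoint: the leading forms decide.
-/
import Cfsg.Agent.Lib.UnipCentralizer.Unitary

set_option autoImplicit false
set_option linter.unusedSectionVars false

open Matrix

namespace Cfsg.Agent.UnipCentralizer.Leading

open Cfsg.Agent.UnipCentralizer Cfsg.Agent.UnipCentralizer.Unitary

variable {F : Type*} [Field F] {t : ℕ} (d : Fin t → ℕ)

/-- The nilpotent block matrix. -/
abbrev Nil : Matrix (Pos d) (Pos d) F := jordanTypeMatrix d F - 1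

/-- Members of the commutant. -/
def InComm (M : Matrix (Pos d) (Pos d) F) : Prop := M * jordanTypeMatrix d F = jordanTypeMatrix d F * M

theorem inComm_iff (M : Matrix (Pos d) (Pos d) F) : InComm d M ↔ M * Nil d = Nil d * M := by
  rw [InComm, Nil, mul_sub, sub_mul, mul_one, one_mul, sub_left_inj]

theorem inComm_one : InComm d (1 : Matrix (Pos d) (Pos d) F) := by simp [InComm]

variable {d}

theorem InComm.mul {M N : Matrix (Pos d) (Pos d) F} (hM : InComm d M) (hN : InComm d N) : InComm d (M * N) :=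
  (Commute.mul_left hM hN : Commute (M * N) (jordanTypeMatrix d F))

theorem InComm.sub {M N : Matrix (Pos d) (Pos d) F} (hM : InComm d M) (hN : InComm d N) : InComm d (M - N) :=
  (Commute.sub_left hM hN : Commute (M - N) (jordanTypeMatrix d F))

theorem InComm.pow {M : Matrix (Pos d) (Pos d) F} (hM : InComm d M) (k : ℕ) : InComm d (M ^ k) :=
  (Commute.pow_left hM k : Commute (M ^ k) (jordanTypeMatrix d F))

theorem InComm.inv {M : Matrix (Pos d) (Pos d) F} (hM : InComm d M) (h : M.det ≠ 0) : InComm d M⁻¹ := by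
  have hu : IsUnit M.det := isUnit_iff_ne_zero.2 h
  show M⁻¹ * _ = _ * M⁻¹
  calc M⁻¹ * jordanTypeMatrix d F = M⁻¹ * (jordanTypeMatrix d F * M) * M⁻¹ := by
        rw [mul_assoc, mul_assoc, Matrix.mul_nonsing_inv _ hu, mul_one]
    _ = jordanTypeMatrix d F * M⁻¹ := by rw [← hM, ← mul_assoc, Matrix.nonsing_inv_mul _ hu, one_mul]

variable (d) (hd : ∀ k, 1 ≤ d k)

/-- The first coordinate of a block. -/
def bot (k : Fin t) : Pos d := ⟨k, ⟨0, hd k⟩⟩

theorem rev_top (k : Fin t) : rev d (top d hd k) = bot d hd k := by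
  refine (pos_ext_iff d).2 ⟨rfl, ?_⟩
  have := hd k
  rw [rev_snd]
  simp only [top, bot]
  omega

theorem rev_bot (k : Fin t) : rev d (bot d hd k) = top d hd k := by rw [← rev_top, rev_rev]

/-- The leading block of size `a`. -/
def lead (M : Matrix (Pos d) (Pos d) F) (a : ℕ) : Matrix (Blk d a) (Blk d a) F :=
  M.submatrix (fun l => top d hd l.1) (fun k => top d hd k.1)

theorem lead_one (a : ℕ) : lead d hd (1 : Matrix (Pos d) (Pos d) F) a = 1 := by
  rw [lead, Matrix.submatrix_one]
  intro l k h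
  exact Subtype.ext (congrArg Sigma.fst h)

theorem lead_sub (M N : Matrix (Pos d) (Pos d) F) (a : ℕ) :
    lead d hd (M - N) a = lead d hd M a - lead d hd N a := rfl

theorem top_eq_zero {M : Matrix (Pos d) (Pos d) F} (hM : InComm d M) (p : Pos d) (k : Fin t)
    (hp : (p.2 : ℕ) + 1 ≠ d p.1) : M p (top d hd k) = 0 := by
  rw [eq_mat d hd hM]; exact mat_apply_top d hd _ p k hp

theorem top_top_eq_zero {M : Matrix (Pos d) (Pos d) F} (hM : InComm d M) {l k : Fin t} (h : d l < d k) :
    M (top d hd l) (top d hd k) = 0 := by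
  rw [eq_mat d hd hM]
  exact topMat_blockTriangular d hd (fun u => M u.1.2 ⟨u.1.1, ⟨0, hd _⟩⟩) (show d l < d k from h)

theorem sum_blk {a : ℕ} (f : Fin t → F) (h : ∀ m, d m ≠ a → f m = 0) : ∑ m : Blk d a, f m.1 = ∑ m, f m := by
  rw [← Finset.sum_subtype (Finset.univ.filter fun m => d m = a) (by simp) f]
  exact Finset.sum_filter_of_ne fun m _ hm => not_not.1 fun hne => hm (h m hne)

theorem lead_mul {M N : Matrix (Pos d) (Pos d) F} (hM : InComm d M) (hN : InComm d N) (a : ℕ) :
    lead d hd (M * N) a = lead d hd M a * lead d hd N a := by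
  ext l k
  show (M * N) (top d hd l.1) (top d hd k.1) = ∑ m : Blk d a, M (top d hd l.1) (top d hd m.1) * N (top d hd m.1) (top d hd k.1)
  rw [sum_blk d (fun m => M (top d hd l.1) (top d hd m) * N (top d hd m) (top d hd k.1))]
  · exact mulVec_of_support d hd M (fun q hq => top_eq_zero d hd hN q k.1 hq) (top d hd l.1)
  · intro m hm
    rcases Nat.lt_or_gt_of_ne hm with h | h
    · rw [top_top_eq_zero d hd hN (show d m < d k.1 by rw [k.2]; exact h), mul_zero]
    · rw [top_top_eq_zero d hd hM (show d l.1 < d m by rw [l.2]; exact h), zero_mul]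

theorem lead_pow {M : Matrix (Pos d) (Pos d) F} (hM : InComm d M) (a : ℕ) :
    ∀ k : ℕ, lead d hd (M ^ k) a = lead d hd M a ^ k
  | 0 => by rw [pow_zero, pow_zero, lead_one]
  | k + 1 => by rw [pow_succ, pow_succ, lead_mul d hd (hM.pow k) hM, lead_pow hM a k]

theorem det_ne_zero_iff {M : Matrix (Pos d) (Pos d) F} (hM : InComm d M) :
    M.det ≠ 0 ↔ ∀ a, (lead d hd M a).det ≠ 0 := by
  classical
  set x : Unk d → F := fun u => M u.1.2 ⟨u.1.1, ⟨0, hd _⟩⟩ with hx
  have hMx : M = mat d x := eq_mat d hd hM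
  rw [hMx, det_mat_ne_zero_iff d hd, det_topMat_ne_zero_iff d hd]
  have key : ∀ a : Fin (Finset.univ.sup d + 1),
      diagEquiv d hd (fun u => x u.1) a = lead d hd (mat d x) a := by
    intro a
    ext l k
    exact (topMat_apply_diag d hd x (l.2.trans k.2.symm)).symm
  constructor
  · intro h a
    by_cases ha : a < Finset.univ.sup d + 1
    · rw [← show ((⟨a, ha⟩ : Fin _) : ℕ) = a from rfl, ← key]; exact h _
    · haveI : IsEmpty (Blk d a) := ⟨fun k => ha (k.2 ▸ Nat.lt_succ_of_le (Finset.le_sup (Finset.mem_univ _)))⟩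
      rw [Matrix.det_isEmpty]; exact one_ne_zero
  · intro h a
    rw [key]; exact h _

theorem bot_apply {M : Matrix (Pos d) (Pos d) F} (hM : InComm d M) {m l : Fin t} :
    M (bot d hd m) (bot d hd l) = if d m = d l then M (top d hd m) (top d hd l) else
      if d m < d l then M (bot d hd m) (bot d hd l) else 0 := by
  split_ifs with h1 h2
  · rw [eq_mat d hd hM]
    simp only [mat, Matrix.of_apply, bot, top]
    rw [dif_pos (show (0 ≤ 0 ∧ d m ≤ 0 - 0 + d l) by omega), dif_pos (show d l - 1 ≤ d m - 1 ∧ d m ≤ d m - 1 - (d l - 1) + d l by omega)]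
    congr 2 <;> first | rfl | exact Fin.ext (show (0 - 0 : ℕ) = d m - 1 - (d l - 1) by omega)
  · rfl
  · rw [eq_mat d hd hM]
    simp only [mat, Matrix.of_apply, bot]
    exact dif_neg (by omega)

/-! ### Forms -/

theorem nil_rev (p r : Pos d) :
    (jordanTypeMatrix d F - 1) p (rev d r) = (jordanTypeMatrix d F - 1) r (rev d p) := by
  rw [jordan_sub_one_apply, jordan_sub_one_apply]
  refine if_congr ?_ rfl rfl
  rw [rev_snd, rev_snd]
  show p.1 = r.1 ∧ _ ↔ r.1 = p.1 ∧ _
  have := p.2.isLt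
  have := r.2.isLt
  constructor <;> rintro ⟨h1, h2⟩ <;> refine ⟨h1.symm, ?_⟩ <;>
  · have h3 := congrArg d h1
    omega

/-- The sign of a coordinate. -/
def sgn (p : Pos d) : F := (-1) ^ (p.2 : ℕ)

theorem sgn_mul_self (p : Pos d) : sgn (F := F) d p * sgn d p = 1 := by
  rw [sgn, ← mul_pow, neg_one_mul, neg_neg, one_pow]

/-- The signed reversal of a form. -/
def toX (Y : Matrix (Pos d) (Pos d) F) : Matrix (Pos d) (Pos d) F :=
  Matrix.of fun p r => sgn d (rev d p) * Y (rev d p) r

theorem toX_mul (Y M : Matrix (Pos d) (Pos d) F) : toX d (Y * M) = toX d Y * M := by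
  ext p r
  simp only [toX, Matrix.of_apply, Matrix.mul_apply, Finset.mul_sum, mul_assoc]

theorem toX_injective : Function.Injective (toX (F := F) d) := by
  intro Y Y' h
  ext p r
  have h1 := congrFun (congrFun h (rev d p)) r
  simp only [toX, Matrix.of_apply, rev_rev] at h1
  exact mul_left_cancel₀ (left_ne_zero_of_mul_eq_one (sgn_mul_self d p)) h1

theorem det_toX_ne_zero_iff (Y : Matrix (Pos d) (Pos d) F) : (toX d Y).det ≠ 0 ↔ Y.det ≠ 0 := by
  have h : toX d Y = Matrix.diagonal (fun p => sgn d (rev d p)) * Y.submatrix (rev d) id := by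
    ext p r
    rw [Matrix.diagonal_mul]
    rfl
  rw [h, det_mul, det_diagonal, Matrix.det_permute, mul_ne_zero_iff, mul_ne_zero_iff]
  refine ⟨fun h => h.2.2, fun hY => ⟨Finset.prod_ne_zero_iff.2 fun p _ =>
    left_ne_zero_of_mul_eq_one (sgn_mul_self d _), ?_, hY⟩⟩
  exact IsUnit.ne_zero ((Units.isUnit _).map (Int.castRingHom F))

theorem inComm_toX_iff (Y : Matrix (Pos d) (Pos d) F) :
    InComm d (toX d Y) ↔ (Nil d)ᵀ * Y = -(Y * Nil d) := by
  rw [inComm_iff]
  have h1 : ∀ p r : Pos d, (toX d Y * Nil (F := F) d) p r = sgn d (rev d p) * (Y * Nil (F := F) d) (rev d p) r := fun p r => by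
    rw [← toX_mul]; rfl
  have h2 : ∀ p r : Pos d, (Nil (F := F) d * toX d Y) p r = -(sgn d (rev d p) * ((Nil (F := F) d)ᵀ * Y) (rev d p) r) := by
    intro p r
    rw [Matrix.mul_apply, Matrix.mul_apply, Finset.mul_sum, ← Finset.sum_neg_distrib]
    refine Fintype.sum_equiv (rev d) _ _ fun s => ?_
    simp only [Matrix.transpose_apply, toX, Matrix.of_apply, Nil]
    have e := nil_rev (F := F) d p (rev d s)
    rw [rev_rev] at e
    rw [← e, jordan_sub_one_apply]
    split_ifs with hc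
    · have : sgn (F := F) d (rev d s) = -sgn d (rev d p) := by
        rw [sgn, sgn, rev_snd, rev_snd]
        have := p.2.isLt
        have := congrArg d hc.1
        rw [show d s.1 - ((s.2 : ℕ) + 1) = (d p.1 - ((p.2 : ℕ) + 1)) + 1 by omega, pow_succ, mul_neg_one]
      rw [this]; ring
    · ring
  constructor
  · intro h
    ext p r
    have := congrFun (congrFun h (rev d p)) r
    rw [h1, h2, rev_rev, ← mul_neg] at this
    rw [Matrix.neg_apply, mul_left_cancel₀ (left_ne_zero_of_mul_eq_one (sgn_mul_self d p)) this, neg_neg]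
  · intro h
    ext p r
    rw [h1, h2, h, Matrix.neg_apply, mul_neg, neg_neg]

/-- An alternating form for which the block matrix is skew-adjoint. -/
def IsForm (Y : Matrix (Pos d) (Pos d) F) : Prop := Yᵀ = -Y ∧ Y.det ≠ 0 ∧ (Nil d)ᵀ * Y = -(Y * Nil d)

/-- The leading form of size `a`. -/
def leadForm (Y : Matrix (Pos d) (Pos d) F) (a : ℕ) : Matrix (Blk d a) (Blk d a) F :=
  Y.submatrix (fun l => bot d hd l.1) (fun k => top d hd k.1)

theorem lead_toX (Y : Matrix (Pos d) (Pos d) F) (a : ℕ) : lead d hd (toX d Y) a = leadForm d hd Y a := by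
  ext l k
  show sgn d (rev d (top d hd l.1)) * Y (rev d (top d hd l.1)) (top d hd k.1) = Y (bot d hd l.1) (top d hd k.1)
  rw [rev_top]
  simp [sgn, bot]

variable {d}

theorem IsForm.inComm {Y : Matrix (Pos d) (Pos d) F} (hY : IsForm d Y) : InComm d (toX d Y) :=
  (inComm_toX_iff d Y).2 hY.2.2

theorem IsForm.det_leadForm {Y : Matrix (Pos d) (Pos d) F} (hY : IsForm d Y) (a : ℕ) :
    (leadForm d hd Y a).det ≠ 0 := by
  rw [← lead_toX]
  exact (det_ne_zero_iff d hd hY.inComm).1 ((det_toX_ne_zero_iff d Y).2 hY.2.1) a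

theorem IsForm.leadForm_transpose {Y : Matrix (Pos d) (Pos d) F} (hY : IsForm d Y) (a : ℕ) :
    (leadForm d hd Y a)ᵀ = (-1 : F) ^ a • leadForm d hd Y a := by
  ext l k
  show Y (bot d hd k.1) (top d hd l.1) = (-1 : F) ^ a * Y (bot d hd l.1) (top d hd k.1)
  have ha : 1 ≤ a := l.2 ▸ hd l.1
  have h1 : Y (bot d hd k.1) (top d hd l.1) = -Y (top d hd l.1) (bot d hd k.1) := by
    have := congrFun (congrFun hY.1 (top d hd l.1)) (bot d hd k.1)
    simpa using this
  have h2 := bot_apply d hd hY.inComm (m := l.1) (l := k.1)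
  rw [if_pos (l.2.trans k.2.symm)] at h2
  simp only [toX, Matrix.of_apply, rev_bot, rev_top] at h2
  rw [show sgn (F := F) d (bot d hd l.1) = 1 by simp [sgn, bot], one_mul,
    show sgn (F := F) d (top d hd l.1) = (-1) ^ (a - 1) by simp [sgn, top, l.2]] at h2
  rw [h1, ← h2]
  obtain ⟨b, rfl⟩ : ∃ b, a = b + 1 := ⟨a - 1, by omega⟩
  rw [Nat.add_sub_cancel, ← mul_assoc, ← pow_add, show b + 1 + b = 2 * b + 1 by ring, pow_succ, pow_mul, neg_one_sq,
    one_pow, one_mul, neg_one_mul]

theorem IsForm.congr {Y c : Matrix (Pos d) (Pos d) F} (hY : IsForm d Y) (hc : InComm d c) (hdet : c.det ≠ 0) :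
    IsForm d (cᵀ * Y * c) := by
  refine ⟨by rw [transpose_mul, transpose_mul, transpose_transpose, hY.1, neg_mul, mul_neg, mul_assoc], ?_, ?_⟩
  · rw [det_mul, det_mul, det_transpose]
    exact mul_ne_zero (mul_ne_zero hdet hY.2.1) hdet
  · have hcn := (inComm_iff d c).1 hc
    calc (Nil d)ᵀ * (cᵀ * Y * c) = (c * Nil d)ᵀ * Y * c := by rw [transpose_mul]; simp only [mul_assoc]
      _ = cᵀ * ((Nil d)ᵀ * Y) * c := by rw [hcn, transpose_mul]; simp only [mul_assoc]
      _ = -(cᵀ * Y * c * Nil d) := by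
        rw [hY.2.2, mul_neg, neg_mul]
        simp only [mul_assoc, hcn]

/-- The leading forms transform by congruence. -/
theorem leadForm_congr {Y c : Matrix (Pos d) (Pos d) F} (hY : IsForm d Y) (hc : InComm d c) (a : ℕ) :
    leadForm d hd (cᵀ * Y * c) a = (lead d hd c a)ᵀ * leadForm d hd Y a * lead d hd c a := by
  rw [← lead_toX d hd Y, mul_assoc ((lead d hd c a)ᵀ), ← lead_mul d hd hY.inComm hc, ← toX_mul, mul_assoc]
  have hXc : InComm d (toX d (Y * c)) := by rw [toX_mul]; exact hY.inComm.mul hc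
  have hsupp : ∀ p (k : Fin t), (p.2 : ℕ) ≠ 0 → (Y * c) p (top d hd k) = 0 := by
    intro p k hp
    have h := top_eq_zero d hd hXc (rev d p) k (by
      rw [rev_snd, rev_fst]; have := p.2.isLt; omega)
    simp only [toX, Matrix.of_apply, rev_rev] at h
    exact (mul_eq_zero.1 h).resolve_left (left_ne_zero_of_mul_eq_one (sgn_mul_self d p))
  ext l k
  show (cᵀ * (Y * c)) (bot d hd l.1) (top d hd k.1) =
    ∑ m : Blk d a, c (top d hd m.1) (top d hd l.1) * toX d (Y * c) (top d hd m.1) (top d hd k.1)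
  have hXY : ∀ m, toX d (Y * c) (top d hd m) (top d hd k.1) = (Y * c) (bot d hd m) (top d hd k.1) := fun m => by
    simp only [toX, Matrix.of_apply, rev_top]
    simp [sgn, bot]
  rw [Matrix.mul_apply, Fintype.sum_sigma]
  trans ∑ m, c (bot d hd m) (bot d hd l.1) * (Y * c) (bot d hd m) (top d hd k.1)
  · refine Finset.sum_congr rfl fun m _ => ?_
    rw [Finset.sum_eq_single (⟨0, hd m⟩ : Fin (d m)) (fun i _ hi => by
      rw [hsupp ⟨m, i⟩ _ (fun e => hi (Fin.ext e)), mul_zero]) (by simp)]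
    rfl
  rw [← sum_blk d (a := a) (fun m => c (bot d hd m) (bot d hd l.1) * (Y * c) (bot d hd m) (top d hd k.1))]
  · refine Finset.sum_congr rfl fun m _ => ?_
    rw [hXY, bot_apply d hd hc, if_pos (m.2.trans l.2.symm)]
  · intro m hm
    rcases Nat.lt_or_gt_of_ne hm with h | h
    · rw [← hXY, top_top_eq_zero d hd hXc (show d m < d k.1 by rw [k.2]; exact h), mul_zero]
    · rw [bot_apply d hd hc, if_neg (by rw [l.2]; omega), if_neg (by rw [l.2]; omega), zero_mul]

/-! ### Prescribed leading blocks -/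

variable (d)

/-- A block scalar member of the commutant. -/
def constMat (g : Fin t → Fin t → F) : Matrix (Pos d) (Pos d) F :=
  Matrix.of fun p r => if (p.2 : ℕ) = r.2 ∧ d p.1 = d r.1 then g p.1 r.1 else 0

theorem inComm_constMat (g : Fin t → Fin t → F) : InComm d (constMat d g) := by
  rw [InComm, commute_iff]
  intro p r
  rw [mul_jordan_apply, jordan_mul_apply]
  simp only [constMat, Matrix.of_apply]
  have := p.2.isLt
  have := r.2.isLt
  split_ifs <;> first | rfl | omega

/-- A function with prescribed blocks. -/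
def glue (G : ∀ a, Matrix (Blk d a) (Blk d a) F) (l k : Fin t) : F :=
  if h : d k = d l then G (d l) ⟨l, rfl⟩ ⟨k, h⟩ else 0

theorem glue_apply (G : ∀ a, Matrix (Blk d a) (Blk d a) F) {a : ℕ} (l k : Blk d a) :
    glue d G l.1 k.1 = G a l k := by
  obtain ⟨l, rfl⟩ := l
  obtain ⟨k, hk⟩ := k
  rw [glue, dif_pos hk]

theorem lead_constMat (G : ∀ a, Matrix (Blk d a) (Blk d a) F) (a : ℕ) :
    lead d hd (constMat d (glue d G)) a = G a := by
  ext l k
  show (if (d l.1 - 1 = d k.1 - 1) ∧ d l.1 = d k.1 then glue d G l.1 k.1 else 0) = _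
  rw [if_pos ⟨by rw [l.2, k.2], l.2.trans k.2.symm⟩, glue_apply]

/-- A form with prescribed leading forms. -/
theorem exists_form (G : ∀ a, Matrix (Blk d a) (Blk d a) F) (hdet : ∀ a, (G a).det ≠ 0)
    (hsym : ∀ a, (G a)ᵀ = (-1 : F) ^ a • G a) :
    ∃ Y, IsForm d Y ∧ ∀ a, leadForm d hd Y a = G a := by
  set M := constMat d (glue d G) with hM
  let Y : Matrix (Pos d) (Pos d) F := Matrix.of fun p r => sgn d p * M (rev d p) r
  have hX : toX d Y = M := by
    ext p r
    simp only [toX, Y, Matrix.of_apply, rev_rev, ← mul_assoc, sgn_mul_self, one_mul]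
  have hlead : ∀ a, lead d hd M a = G a := lead_constMat d hd G
  refine ⟨Y, ⟨?_, ?_, ?_⟩, fun a => by rw [← lead_toX, hX, hlead]⟩
  · ext ⟨l, i⟩ ⟨k, j⟩
    simp only [Y, hM, Matrix.transpose_apply, Matrix.neg_apply, Matrix.of_apply, constMat, rev_snd, rev_fst, sgn]
    have := i.isLt
    have := j.isLt
    by_cases hdd : d l = d k
    · by_cases hij : (i : ℕ) + (j : ℕ) + 1 = d l
      · rw [if_pos ⟨by omega, hdd.symm⟩, if_pos ⟨by omega, hdd⟩]
        have h := congrFun (congrFun (hsym (d l)) ⟨l, rfl⟩) ⟨k, hdd.symm⟩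
        simp only [Matrix.transpose_apply, Matrix.smul_apply, smul_eq_mul] at h
        rw [← glue_apply d G ⟨k, hdd.symm⟩ ⟨l, rfl⟩, ← glue_apply d G ⟨l, rfl⟩ ⟨k, hdd.symm⟩] at h
        dsimp only at h
        have hpow : ((-1 : F) ^ (j : ℕ) * (-1) ^ d l) = -(-1) ^ (i : ℕ) := by
          rw [← pow_add, show (j : ℕ) + d l = (i : ℕ) + (2 * (j : ℕ) + 1) by omega, pow_add,
            pow_succ (-1 : F) (2 * (j : ℕ)), pow_mul, neg_one_sq, one_pow, one_mul, mul_neg_one]
        rw [h, ← mul_assoc, hpow, neg_mul]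
      · rw [if_neg fun e => hij (by omega), if_neg fun e => hij (by omega)]
        simp
    · rw [if_neg fun e => hdd e.2.symm, if_neg fun e => hdd e.2]
      simp
  · rw [← det_toX_ne_zero_iff, hX, det_ne_zero_iff d hd (inComm_constMat d _)]
    exact fun a => by rw [hlead]; exact hdet a
  · rw [← inComm_toX_iff, hX]
    exact inComm_constMat d _

/-! ### The congruence theorem -/

variable {d}

theorem exists_idempotent_pow {M : Type*} [Monoid M] [Finite M] (x : M) : ∃ k, 1 ≤ k ∧ x ^ k * x ^ k = x ^ k := by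
  obtain ⟨i, j, hij, h⟩ := Finite.exists_ne_map_eq_of_infinite (fun n : ℕ => x ^ (n + 1))
  wlog hlt : i < j generalizing i j
  · exact this j i hij.symm h.symm (by omega)
  set P := j - i with hP
  have hper : ∀ m, i + 1 ≤ m → x ^ (m + P) = x ^ m := fun m hm => by
    have h' : x ^ (i + 1) = x ^ (j + 1) := h
    rw [show m + P = (m - (i + 1)) + (j + 1) by omega, pow_add, ← h', ← pow_add,
      show m - (i + 1) + (i + 1) = m by omega]
  have hmul : ∀ c m, i + 1 ≤ m → x ^ (m + c * P) = x ^ m := by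
    intro c
    induction c with
    | zero => simp
    | succ c ih => intro m hm; rw [show m + (c + 1) * P = (m + c * P) + P by ring, hper _ (by omega), ih m hm]
  refine ⟨(i + 1) * P, Nat.mul_pos (by omega) (by omega), ?_⟩
  rw [← pow_add]
  exact hmul (i + 1) _ (Nat.le_mul_of_pos_right _ (by omega))

theorem exists_congr_of_leadForm_eq [Fintype F] (p : ℕ) [Fact p.Prime] [CharP F p] (hp : p ≠ 2)
    {Y Y' : Matrix (Pos d) (Pos d) F} (hY : IsForm d Y) (hY' : IsForm d Y')
    (hl : ∀ a, leadForm d hd Y a = leadForm d hd Y' a) :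
    ∃ c, InComm d c ∧ c.det ≠ 0 ∧ cᵀ * Y * c = Y' := by
  have hYu : IsUnit Y.det := isUnit_iff_ne_zero.2 hY.2.1
  set R := Y⁻¹ * Y' with hR
  have hYR : Y * R = Y' := by rw [hR, ← mul_assoc, Matrix.mul_nonsing_inv _ hYu, one_mul]
  have hXR : toX d Y * R = toX d Y' := by rw [← toX_mul, hYR]
  have hXdet := (det_toX_ne_zero_iff d Y).2 hY.2.1
  have hRc : InComm d R := by
    have := (hY.inComm.inv hXdet).mul hY'.inComm
    rwa [← hXR, ← mul_assoc, Matrix.nonsing_inv_mul _ (isUnit_iff_ne_zero.2 hXdet), one_mul] at this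
  have hlR : ∀ a, lead d hd R a = 1 := fun a => by
    have h := lead_mul d hd hY.inComm hRc a
    rw [hXR, lead_toX, lead_toX, ← hl a] at h
    have hu : IsUnit (leadForm d hd Y a).det := isUnit_iff_ne_zero.2 (hY.det_leadForm hd a)
    have := congrArg ((leadForm d hd Y a)⁻¹ * ·) h
    simp only [← mul_assoc, Matrix.nonsing_inv_mul _ hu, one_mul] at this
    exact this.symm
  obtain ⟨k, hk, hidem⟩ := exists_idempotent_pow (R - 1)
  set E := (R - 1) ^ k with hE
  have hEc : InComm d E := (hRc.sub (inComm_one d)).pow k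
  have hE0 : E = 0 := by
    have h1 : (1 - E).det ≠ 0 := by
      rw [det_ne_zero_iff d hd ((inComm_one d).sub hEc)]
      intro a
      rw [lead_sub, lead_one, hE, lead_pow d hd (hRc.sub (inComm_one d)), lead_sub, lead_one, hlR, sub_self,
        zero_pow (by omega), sub_zero, det_one]
      exact one_ne_zero
    have h2 : (1 - E) * E = 0 := by rw [sub_mul, one_mul, hidem, sub_self]
    exact (Matrix.isUnit_iff_isUnit_det _ |>.2 (isUnit_iff_ne_zero.2 h1)).mul_right_eq_zero.1 h2
  have hpk : R ^ (p ^ k) = 1 := by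
    have hpow : (R - 1) ^ (p ^ k) = R ^ (p ^ k) - 1 := by
      have h := congrArg (Polynomial.aeval R) (sub_pow_char_pow (Polynomial.X : Polynomial F) 1 (n := k) (p := p))
      simpa using h
    have h0 : (R - 1) ^ (p ^ k) = 0 :=
      pow_eq_zero_of_le (Nat.lt_pow_self (Fact.out : p.Prime).one_lt).le hE0
    rw [h0] at hpow
    exact (sub_eq_zero.1 hpow.symm)
  obtain ⟨h, hh⟩ : Odd (p ^ k) := ((Fact.out : p.Prime).odd_of_ne_two hp).pow
  set S := R ^ (h + 1) with hS
  have hSS : S * S = R := by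
    rw [hS, ← pow_add, show h + 1 + (h + 1) = p ^ k + 1 by omega, pow_succ, hpk, one_mul]
  have hRT : Rᵀ * Y = Y * R := by
    rw [hYR, hR, transpose_mul, hY'.1, mul_assoc,
      show (Y⁻¹)ᵀ * Y = -(Y⁻¹ᵀ * Yᵀ) by rw [hY.1, mul_neg, neg_neg], ← transpose_mul,
      Matrix.mul_nonsing_inv _ hYu, transpose_one, mul_neg, mul_one, neg_neg]
  have hST : ∀ j : ℕ, (R ^ j)ᵀ * Y = Y * R ^ j := by
    intro j
    induction j with
    | zero => simp
    | succ j ih =>
      calc (R ^ (j + 1))ᵀ * Y = Rᵀ * ((R ^ j)ᵀ * Y) := by rw [pow_succ, transpose_mul, mul_assoc]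
        _ = Y * R * R ^ j := by rw [ih, ← mul_assoc, hRT]
        _ = Y * R ^ (j + 1) := by rw [pow_succ', mul_assoc]
  refine ⟨S, hRc.pow _, ?_, ?_⟩
  · intro h0
    have h1 : R.det = 0 := by rw [← hSS, det_mul, h0, mul_zero]
    have h2 := congrArg Matrix.det hYR
    rw [det_mul, h1, mul_zero] at h2
    exact hY'.2.1 h2.symm
  · rw [hS, hST, ← hS, mul_assoc, hSS, hYR]

/-- Forms with congruent leading forms are congruent under the commutant. -/
theorem exists_congr [Fintype F] (p : ℕ) [Fact p.Prime] [CharP F p] (hp : p ≠ 2)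
    {Y Y' : Matrix (Pos d) (Pos d) F} (hY : IsForm d Y) (hY' : IsForm d Y')
    (hl : ∀ a, ∃ P : Matrix (Blk d a) (Blk d a) F, P.det ≠ 0 ∧ Pᵀ * leadForm d hd Y a * P = leadForm d hd Y' a) :
    ∃ c, InComm d c ∧ c.det ≠ 0 ∧ cᵀ * Y * c = Y' := by
  choose P hP hPc using hl
  set c₀ := constMat d (glue d P) with hc₀
  have hc : InComm d c₀ := inComm_constMat d _
  have hdet : c₀.det ≠ 0 := by
    rw [det_ne_zero_iff d hd hc]
    exact fun a => by rw [hc₀, lead_constMat]; exact hP a
  obtain ⟨c, h1, h2, h3⟩ := exists_congr_of_leadForm_eq hd p hp (hY.congr hc hdet) hY' fun a => by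
    rw [leadForm_congr hd hY hc, hc₀, lead_constMat, hPc]
  refine ⟨c₀ * c, hc.mul h1, by rw [det_mul]; exact mul_ne_zero hdet h2, ?_⟩
  rw [← h3, transpose_mul]
  simp only [mul_assoc]

end Cfsg.Agent.UnipCentralizer.Leading
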