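/-
Hermitian units of the commutant of a unipotent unitary matrix.
-/
import Cfsg.Agent.Lib.UnipCentralizer.Unitary
import Cfsg.Agent.Lib.UnipForms.Types

set_option autoImplicit false
set_option linter.unusedSectionVars false

open Cfsg
open scoped Matrix

namespace Cfsg.Agent.UnipCentralizer.Unitary

open Forms Cfsg.Agent.UnipCentralizer UnitaryConj

variable {F : Type*} [Field F] [Fintype F] {q : ℕ} (hF : Fintype.card F = q ^ 2) {n t : ℕ} (d : Fin t → ℕ)
  (e : Pos d ≃ Fin n)

include hF in
/-- The self-adjoint nilpotent element with the same commutant. -/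
theorem exists_selfAdjoint {G : Matrix (Fin n) (Fin n) F} (hg : adj hF G * G = 1)
    (hu : IsConj (Matrix.reindex e e (jordanTypeMatrix d F)) G) :
    ∃ N : Matrix (Fin n) (Fin n) F, adj hF N = N ∧ (∀ M, Commute M G ↔ Commute M N) ∧
      ∃ c : (Matrix (Fin n) (Fin n) F)ˣ,
        (c : Matrix (Fin n) (Fin n) F) * (jordanTypeMatrix d F - 1).submatrix e.symm e.symm = N * c := by
  obtain ⟨hnil, hty⟩ := (UnipForms.isConj_jordan_iff d e G).1 hu
  obtain ⟨l, hl⟩ : ∃ l : F, qEnd hF l ≠ l := by
    by_contra hc
    push Not at hc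
    exact qEnd_ne_id hF (RingHom.ext hc)
  set m := qEnd hF l with hm
  have hlm : l - m ≠ 0 := sub_ne_zero.2 (Ne.symm hl)
  set R := l • (1 : Matrix (Fin n) (Fin n) F) - m • G with hR
  have hnil' : IsNilpotent (G - 1) := (IsNilpotent.map_iff Matrix.toLinAlgEquiv'.injective).1 hnil
  have hRu : IsUnit R := by
    have h : R = (l - m) • (1 : Matrix (Fin n) (Fin n) F) + -(m • (G - 1)) := by
      rw [hR, sub_smul, smul_sub]; abel
    rw [h]
    refine IsNilpotent.isUnit_add_left_of_commute (hnil'.smul m).neg ?_ ?_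
    · rw [← Algebra.algebraMap_eq_smul_one]
      exact (IsUnit.mk0 _ hlm).map (algebraMap F _)
    · exact (Commute.one_right _).smul_right _
  set r := hRu.unit with hr
  have hrv : (r : Matrix (Fin n) (Fin n) F) = R := hRu.unit_spec
  have hGR : Commute (G - 1) R := by
    rw [hR]
    exact ((Commute.one_right _).smul_right _).sub_right (((Commute.refl G).sub_left (Commute.one_left _)).smul_right _)
  have hGr : Commute (G - 1) (↑r⁻¹ : Matrix (Fin n) (Fin n) F) := (hrv.symm ▸ hGR : Commute (G - 1) ↑r).units_inv_right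
  set N := (G - 1) * (↑r⁻¹ : Matrix (Fin n) (Fin n) F) with hN
  have hNR : N * R = G - 1 := by rw [hN, ← hrv, mul_assoc, Units.inv_mul, mul_one]
  have hGG : G * adj hF G = 1 := mul_eq_one_comm.1 hg
  have hcomm : ∀ M, Commute M G ↔ Commute M N := by
    intro M
    constructor
    · intro h
      have h1 : Commute M R := by
        rw [hR]
        exact ((Commute.one_right _).smul_right _).sub_right (h.smul_right _)
      exact (h.sub_right (Commute.one_right _)).mul_right (hrv.symm ▸ h1 : Commute M ↑r).units_inv_right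
    · intro h
      have hfix : (1 + m • N) * G = 1 + l • N := by
        have e1 : N * R = l • N - m • (N * G) := by rw [hR, mul_sub, mul_smul_comm, mul_smul_comm, mul_one]
        rw [add_mul, one_mul, smul_mul_assoc]
        rw [hNR] at e1
        rw [eq_comm, sub_eq_iff_eq_add] at e1
        rw [e1]
        abel
      have hu' : IsUnit (1 + m • N) :=
        ((hGr.isNilpotent_mul_right hnil').smul m).isUnit_one_add
      refine hu'.mul_left_cancel ?_
      have hMN : Commute M (1 + m • N) := (Commute.one_right _).add_right (h.smul_right _)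
      have hMN' : Commute M (1 + l • N) := (Commute.one_right _).add_right (h.smul_right _)
      calc (1 + m • N) * (M * G) = M * ((1 + m • N) * G) := by rw [← mul_assoc, ← hMN.eq, mul_assoc]
        _ = (1 + m • N) * (G * M) := by rw [hfix, hMN'.eq, ← hfix, mul_assoc]
  have hNs : adj hF N = N := by
    have hadjR : G * adj hF R = -R := by
      rw [hR, show l • (1 : Matrix (Fin n) (Fin n) F) - m • G = l • 1 + -(m • G) from sub_eq_add_neg _ _,
        adj_add, adj_neg, adj_smul, adj_smul, adj_one, hm, qEnd_qEnd, mul_add, mul_smul_comm, mul_neg,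
        mul_smul_comm, hGG, mul_one]
      abel
    have hadjG : G * adj hF (G - 1) = 1 - G := by
      rw [sub_eq_add_neg, adj_add, adj_neg, adj_one, mul_add, hGG, mul_neg, mul_one, sub_eq_add_neg]
    have h1 : -R * adj hF N = 1 - G := by rw [← hadjR, mul_assoc, ← adj_mul, hNR, hadjG]
    have h2 : R * adj hF N = R * N := by
      have h3 : R * N = G - 1 := by
        rw [hN, ← mul_assoc, ← hGR.eq, mul_assoc, ← hrv, Units.mul_inv, mul_one]
      rw [h3, ← neg_sub, ← h1, neg_mul, neg_neg]
    exact hRu.mul_left_cancel h2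
  refine ⟨N, hNs, hcomm, ?_⟩
  have hnilN : IsNilpotent (Matrix.toLinAlgEquiv' (1 + N - 1)) := by
    rw [add_sub_cancel_left]
    exact (hGr.isNilpotent_mul_right hnil').map Matrix.toLinAlgEquiv'
  have htyN : LinRep.JordanType.HasType (Matrix.toLinAlgEquiv' (1 + N - 1)) (Finset.univ.val.map d) := by
    rw [add_sub_cancel_left, hN, map_mul]
    exact UnipForms.hasType_mul_unit (r⁻¹.isUnit.map Matrix.toLinAlgEquiv') (hGr.map _) hty
  obtain ⟨c, hc⟩ := (UnipForms.isConj_jordan_iff d e (1 + N)).2 ⟨hnilN, htyN⟩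
  refine ⟨c, ?_⟩
  have h := hc.eq
  rw [add_mul, one_mul] at h
  have hJ : (jordanTypeMatrix d F - 1).submatrix e.symm e.symm = Matrix.reindex e e (jordanTypeMatrix d F) - 1 := by
    ext a b
    simp [Matrix.reindex_apply, Matrix.one_apply]
  rw [hJ, mul_sub, mul_one, h, add_sub_cancel_left]

set_option maxHeartbeats 1000000 in
include hF in
/-- Hermitian units of the commutant and symmetrical unknowns. -/
theorem card_hermUnit (hd : ∀ k, 1 ≤ d k) {G : Matrix (Fin n) (Fin n) F} (hg : adj hF G * G = 1)
    (hu : IsConj (Matrix.reindex e e (jordanTypeMatrix d F)) G) :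
    Nat.card (HermUnit hF G) = Nat.card (SymUnit hF d) := by
  classical
  obtain ⟨N, hNs, hcomm, c, hc⟩ := exists_selfAdjoint hF d e hg hu
  set J := (jordanTypeMatrix d F - 1) with hJ
  set J' := J.submatrix e.symm e.symm with hJ'
  have hJa : adj hF J' = J'ᵀ := by
    ext a b
    simp only [adj, hJ', hJ, Matrix.transpose_apply, Matrix.map_apply, Matrix.submatrix_apply, jordan_sub_one_apply]
    split_ifs <;> simp
  have hCiC : (↑c⁻¹ : Matrix (Fin n) (Fin n) F) * (c : Matrix (Fin n) (Fin n) F) = 1 := c.inv_mul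
  have hCCi : (c : Matrix (Fin n) (Fin n) F) * (↑c⁻¹ : Matrix (Fin n) (Fin n) F) = 1 := c.mul_inv
  have hCu : IsUnit (c : Matrix (Fin n) (Fin n) F) := c.isUnit
  have hCiu : IsUnit (↑c⁻¹ : Matrix (Fin n) (Fin n) F) := c⁻¹.isUnit
  generalize (↑c⁻¹ : Matrix (Fin n) (Fin n) F) = D at hCiC hCCi hCiu
  generalize (c : Matrix (Fin n) (Fin n) F) = C at hCiC hCCi hCu hc
  have hcc : adj hF D * adj hF C = 1 := by rw [← adj_mul, hCCi, adj_one]
  have hcc' := mul_eq_one_comm.1 hcc
  -- hermitian units of the commutant as Gram matrices in Jordan coordinates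
  let GramT := {Y : Matrix (Fin n) (Fin n) F // IsUnit Y ∧ adj hF Y = Y ∧ J'ᵀ * Y = Y * J'}
  let e₁ : HermUnit hF G ≃ GramT :=
    { toFun := fun M => ⟨adj hF C * M.1 * C, by
        refine ⟨(IsUnit.of_mul_eq_one _ hcc').mul M.2.1 |>.mul hCu, ?_, ?_⟩
        · rw [adj_mul, adj_mul, adj_adj, M.2.2.1, mul_assoc]
        · calc J'ᵀ * (adj hF C * M.1 * C) = adj hF (C * J') * M.1 * C := by
                rw [adj_mul, hJa]; simp only [mul_assoc]
            _ = adj hF C * ((N * M.1) * C) := by
                rw [hc, adj_mul, hNs]; simp only [mul_assoc]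
            _ = adj hF C * ((M.1 * N) * C) := by rw [((hcomm _).1 M.2.2.2).eq]
            _ = adj hF C * M.1 * C * J' := by simp only [mul_assoc, hc]⟩
      invFun := fun Y => ⟨adj hF D * Y.1 * D, by
        obtain ⟨Y, hYu, hYs, hYc⟩ := Y
        refine ⟨(IsUnit.of_mul_eq_one _ hcc).mul hYu |>.mul hCiu, ?_, (hcomm _).2 ?_⟩
        · show adj hF (adj hF D * Y * D) = adj hF D * Y * D
          rw [adj_mul, adj_mul, adj_adj, hYs, mul_assoc]
        · have hc' : D * N = J' * D := by
            calc D * N = D * (N * C) * D := by simp only [mul_assoc, hCCi, mul_one]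
              _ = J' * D := by rw [← hc, ← mul_assoc, hCiC, one_mul]
          show _ * N = N * _
          calc adj hF D * Y * D * N = adj hF D * (J'ᵀ * Y) * D := by
                rw [hYc]; simp only [mul_assoc, hc']
            _ = adj hF (D * N) * Y * D := by
                rw [hc', adj_mul, hJa]; simp only [mul_assoc]
            _ = N * (adj hF D * Y * D) := by
                rw [adj_mul, hNs]; simp only [mul_assoc]⟩
      left_inv := fun M => Subtype.ext (by
        show adj hF D * (adj hF C * M.1 * C) * D = M.1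
        calc _ = (adj hF D * adj hF C) * M.1 * (C * D) := by simp only [mul_assoc]
          _ = M.1 := by rw [hcc, hCCi, one_mul, mul_one])
      right_inv := fun Y => Subtype.ext (by
        show adj hF C * (adj hF D * Y.1 * D) * C = Y.1
        calc _ = (adj hF C * adj hF D) * Y.1 * (D * C) := by simp only [mul_assoc]
          _ = Y.1 := by rw [hcc', hCiC, one_mul, mul_one]) }
  -- from Gram matrices to the commutant
  let e₂ : Matrix (Fin n) (Fin n) F ≃ Matrix (Pos d) (Pos d) F :=
    { toFun := fun Y => Matrix.of fun p r => Y (e (rev d p)) (e r)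
      invFun := fun X => Matrix.of fun a b => X (rev d (e.symm a)) (e.symm b)
      left_inv := fun Y => by ext a b; simp [rev_rev]
      right_inv := fun X => by ext a b; simp [rev_rev] }
  have h2 : ∀ Y, (IsUnit Y ∧ adj hF Y = Y ∧ J'ᵀ * Y = Y * J') ↔
      ((e₂ Y).det ≠ 0 ∧ IsSym hF d (e₂ Y) ∧ e₂ Y * jordanTypeMatrix d F = jordanTypeMatrix d F * e₂ Y) := by
    intro Y
    refine and_congr ?_ (and_congr ?_ ?_)
    · rw [← isUnit_iff_ne_zero, ← Matrix.isUnit_iff_isUnit_det,
        show e₂ Y = Y.submatrix ((rev d).trans e) e from rfl, Matrix.isUnit_submatrix_equiv]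
    · constructor
      · intro h p r
        simp only [e₂, Equiv.coe_fn_mk, Matrix.of_apply, rev_rev]
        exact congrFun (congrFun h (e r)) (e p)
      · intro h
        ext a b
        have := h (e.symm b) (e.symm a)
        simpa [e₂, adj, rev_rev] using this
    · have hright : ∀ p r, (e₂ Y * J) p r = (Y * J') (e (rev d p)) (e r) := by
        intro p r
        rw [Matrix.mul_apply, Matrix.mul_apply]
        refine Fintype.sum_equiv e _ _ fun s => ?_
        simp [e₂, hJ']
      have hleft : ∀ p r, (J * e₂ Y) p r = (J'ᵀ * Y) (e (rev d p)) (e r) := by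
        intro p r
        rw [Matrix.mul_apply, Matrix.mul_apply]
        refine Fintype.sum_equiv ((rev d).trans e) _ _ fun s => ?_
        simp only [e₂, hJ', hJ, Equiv.coe_fn_mk, Equiv.trans_apply, Matrix.of_apply, Matrix.transpose_apply,
          Matrix.submatrix_apply, Equiv.symm_apply_apply]
        rw [← jordan_rev d p (rev d s), rev_rev]
      constructor
      · intro h
        rw [commute_iff]
        intro p r
        rw [hright, hleft, h]
      · intro h
        rw [commute_iff] at h
        ext a b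
        have h' := h (rev d (e.symm a)) (e.symm b)
        rw [hright, hleft, rev_rev, e.apply_symm_apply, e.apply_symm_apply] at h'
        exact h'.symm
  let e₃ : {X : Matrix (Pos d) (Pos d) F //
      X.det ≠ 0 ∧ IsSym hF d X ∧ X * jordanTypeMatrix d F = jordanTypeMatrix d F * X} ≃ SymUnit hF d :=
    { toFun := fun X => ⟨fun u => X.1 u.1.2 ⟨u.1.1, ⟨0, hd _⟩⟩, by
        rw [← isSym_mat_iff hF d hd, ← eq_mat d hd X.2.2.2]
        exact ⟨X.2.1, X.2.2.1⟩⟩
      invFun := fun x => ⟨mat d x.1, x.2.1, (isSym_mat_iff hF d hd x.1).2 x.2.2, mat_commute d x.1⟩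
      left_inv := fun X => Subtype.ext (eq_mat d hd X.2.2.2).symm
      right_inv := fun x => Subtype.ext (funext fun u => by
        show mat d x.1 u.1.2 ⟨u.1.1, ⟨0, hd _⟩⟩ = x.1 u
        simp only [mat, Matrix.of_apply]
        have h2 : d u.1.2.1 ≤ (u.1.2.2 : ℕ) - 0 + d u.1.1 := u.2
        rw [dif_pos ⟨Nat.zero_le _, h2⟩]
        rfl) }
  exact Nat.card_congr ((e₁.trans (e₂.subtypeEquiv h2)).trans e₃)

end Cfsg.Agent.UnipCentralizer.Unitary
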